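import Cfsg.Agent.Lib.Invol.PTerminal.Pump
import Cfsg.Agent.Lib.Invol.BLayer.General

/-!
# Intrinsic two-components

`Intr x J`: the involution `x` lies in the two-component `J` of its centralizer and is its only involution.
-/

set_option autoImplicit false
set_option linter.style.haveILetI false
set_option linter.unusedSectionVars false

namespace CfsgLib.Invol.IntrinsicSL

open Subgroup CfsgLib.Coprime CfsgLib.Invol.PTerminal
open scoped commutatorElement

variable {G : Type*} [Group G] [Finite G]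

local notation "𝒞" x:max => Subgroup.centralizer ({x} : Set _)

/-- `C(x)` modulo its core. -/
abbrev Qc (x : G) : Type _ := ↥(𝒞 x) ⧸ Cfsg.pPrimeCore 2 ↥(𝒞 x)

/-- The image of `x` in `Qc x`. -/
abbrev self' (x : G) : ↥(𝒞 x) := ⟨x, mem_centralizer_singleton_iff.2 rfl⟩

/-- The central involution of `Qc x`. -/
abbrev cx (x : G) : Qc x := proj 2 (𝒞 x) (self' x)

/-- A two-element. -/
def TwoEl {M : Type*} [Monoid M] (g : M) : Prop := ∃ k : ℕ, g ^ 2 ^ k = 1

theorem TwoEl.map {M N : Type*} [Monoid M] [Monoid N] {g : M} (h : TwoEl g) (f : M →* N) :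
    TwoEl (f g) := let ⟨k, hk⟩ := h; ⟨k, by rw [← map_pow, hk, map_one]⟩

theorem twoEl_of_sq {M : Type*} [Monoid M] {g : M} (h : g * g = 1) : TwoEl g :=
  ⟨1, by rw [pow_one, pow_two, h]⟩

theorem TwoEl.eq_one {M : Type*} [Group M] [Finite M] {g : M} (h : TwoEl g) (ho : Odd (orderOf g)) :
    g = 1 := let ⟨_, hk⟩ := h; CfsgLib.Invol.eq_one_of_odd_of_pow_two ho hk

theorem exists_odd_pow_twoEl {M : Type*} [Group M] [Finite M] (g : M) :
    ∃ m : ℕ, Odd m ∧ TwoEl (g ^ m) := by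
  have h0 : orderOf g ≠ 0 := (orderOf_pos g).ne'
  refine ⟨orderOf g / 2 ^ (orderOf g).factorization 2, ?_, (orderOf g).factorization 2, ?_⟩
  · rw [Nat.odd_iff]
    have := Nat.not_dvd_ordCompl Nat.prime_two h0
    omega
  · rw [← pow_mul, Nat.div_mul_cancel (Nat.ordProj_dvd _ _), pow_orderOf_eq_one]

theorem TwoEl.pow_odd_ne_one {M : Type*} [Group M] [Finite M] {g : M} (h : TwoEl g) (h1 : g ≠ 1)
    {m : ℕ} (hm : Odd m) : g ^ m ≠ 1 := fun e => h1 (h.eq_one (hm.of_dvd_nat (orderOf_dvd_of_pow_eq_one e)))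

theorem sq_pow_odd {M : Type*} [Monoid M] {g : M} (h : g * g = 1) {m : ℕ} (hm : Odd m) : g ^ m = g := by
  obtain ⟨k, rfl⟩ := hm
  rw [pow_succ, pow_mul, pow_two, h, one_pow, one_mul]

/-- What maps to `1` modulo the core has odd order. -/
theorem odd_of_proj {x : G} {g : ↥(𝒞 x)} (h : proj 2 (𝒞 x) g = 1) : Odd (orderOf (g : G)) := by
  have hg := (QuotientGroup.eq_one_iff g).1 h
  rw [orderOf_coe, Nat.odd_iff, ← Nat.two_dvd_ne_zero]
  intro hd
  refine pPrimeCore_not_dvd (G := ↥(𝒞 x)) Nat.prime_two (hd.trans ?_)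
  rw [← Subgroup.orderOf_mk g hg]
  exact orderOf_dvd_natCard _

theorem proj_eq_one_of_odd_twoEl {x : G} {g : ↥(𝒞 x)} (ho : Odd (orderOf (g : G)))
    (h : TwoEl (proj 2 (𝒞 x) g)) : proj 2 (𝒞 x) g = 1 :=
  h.eq_one (ho.of_dvd_nat (by rw [orderOf_coe]; exact orderOf_map_dvd _ g))

theorem proj_self_ne_one {x : G} (hx : orderOf x = 2) : proj 2 (𝒞 x) (self' x) ≠ 1 := fun h => by
  have := odd_of_proj h
  rw [show ((self' x : ↥(𝒞 x)) : G) = x from rfl, hx] at this
  exact absurd this (by decide)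

theorem proj_self_central {x : G} (q : Qc x) :
    Commute q (proj 2 (𝒞 x) (self' x)) := by
  obtain ⟨g, rfl⟩ := QuotientGroup.mk'_surjective _ q
  exact (show Commute g (self' x) from Subtype.ext (mem_centralizer_singleton_iff.1 g.2)).map (proj 2 (𝒞 x))

theorem proj_self_sq {x : G} (hx : orderOf x = 2) :
    proj 2 (𝒞 x) (self' x) * proj 2 (𝒞 x) (self' x) = 1 := by
  rw [← map_mul, show self' x * self' x = 1 from Subtype.ext (invol_mul_self hx), map_one]

/-- An involution over an involution, centralizing `y`. -/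
theorem exists_invol_lift {x y : G} (hy : orderOf y = 2) (hyx : y ∈ 𝒞 x) {q : Qc x} (hq : q * q = 1)
    (hq1 : q ≠ 1) (hc : Commute q (proj 2 (𝒞 x) ⟨y, hyx⟩)) :
    ∃ h : ↥(𝒞 x), orderOf (h : G) = 2 ∧ (h : G) ∈ 𝒞 y ∧ proj 2 (𝒞 x) h = q := by
  haveI : Fact (Nat.Prime 2) := ⟨Nat.prime_two⟩
  obtain ⟨g, rfl⟩ := QuotientGroup.mk'_surjective _ q
  obtain ⟨g', hg', e⟩ := exists_lift_centralizer (zpowers_le.2 hyx) (isPGroup_zpowers_of hy)
    (g := g) (fun s hs => by
      obtain ⟨n, rfl⟩ := mem_zpowers_iff.1 hs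
      rw [show (⟨y ^ n, zpowers_le.2 hyx hs⟩ : ↥(𝒞 x)) = (⟨y, hyx⟩ : ↥(𝒞 x)) ^ n from Subtype.ext (by simp),
        map_zpow]
      exact hc.zpow_right n)
  rw [centralizer_zpowers_eq] at hg'
  have h2 : proj 2 (𝒞 x) (g' * g') = 1 := by rw [map_mul, e]; exact hq
  have ho := odd_of_proj h2
  set n := orderOf ((g' * g' : ↥(𝒞 x)) : G) with hn
  have e2 : proj 2 (𝒞 x) (g' ^ n) = proj 2 (𝒞 x) g := by
    rw [map_pow, e]; exact sq_pow_odd hq ho
  refine ⟨g' ^ n, CfsgLib.Invol.invol_iff.2 ⟨?_, ?_⟩, by rw [coe_pow]; exact pow_mem hg' n, e2⟩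
  · rw [coe_pow, ← (Commute.refl (g' : G)).mul_pow, hn, coe_mul]
    exact pow_orderOf_eq_one _
  · intro h1
    refine hq1 ?_
    show proj 2 (𝒞 x) g = 1
    rw [← e2, show g' ^ n = 1 from Subtype.ext h1, map_one]

/-- Involutions with equal images are conjugate by an element of the core. -/
theorem exists_conj_core {x : G} {u v : ↥(𝒞 x)} (hu : orderOf (u : G) = 2) (hv : orderOf (v : G) = 2)
    (h : proj 2 (𝒞 x) u = proj 2 (𝒞 x) v) :
    ∃ o : ↥(𝒞 x), (o : G) ∈ zpowers ((u : G) * v) ∧ proj 2 (𝒞 x) o = 1 ∧ (o : G) * u * (o : G)⁻¹ = v := by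
  have hu2 : proj 2 (𝒞 x) u * proj 2 (𝒞 x) u = 1 := by
    rw [← map_mul, show u * u = 1 from Subtype.ext (invol_mul_self hu), map_one]
  have huv : proj 2 (𝒞 x) (u * v) = 1 := by rw [map_mul, ← h, hu2]
  have hodd := odd_of_proj huv
  rw [coe_mul] at hodd
  obtain ⟨d, hd, e⟩ := exists_conj_eq_of_odd hu hv hodd
  obtain ⟨n, rfl⟩ := mem_zpowers_iff.1 hd
  refine ⟨(u * v) ^ n, by rw [coe_zpow, coe_mul]; exact zpow_mem (mem_zpowers _) n, ?_, by
    rw [coe_zpow, coe_mul]; exact e⟩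
  rw [map_zpow, huv, one_zpow]

/-! ### Intrinsic components -/

/-- `x` is the only involution of the two-component `J` of `C(x)`. -/
structure Intr (x : G) (J : Subgroup G) : Prop where
  ord : orderOf x = 2
  comp : Cfsg.IsPComponentOf 2 J (𝒞 x)
  mem : x ∈ J
  uniq : ∀ t ∈ J, orderOf t = 2 → t = x
  cen : Nat.card (center (↥J ⧸ Cfsg.oddCore ↥J)) = 2

variable {x : G} {J : Subgroup G}

theorem Intr.isComponent [Fact (Nat.Prime 2)] (h : Intr x J) : Cfsg.IsComponent (bar 2 (𝒞 x) J) :=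
  h.comp.2.2.1

theorem Intr.le (h : Intr x J) : J ≤ 𝒞 x := h.comp.1

theorem Intr.self_mem (h : Intr x J) : (cx x) ∈ bar 2 (𝒞 x) J := proj_mem_bar (g := self' x) h.mem

/-- A nontrivial two-element of the image has a power equal to the central involution. -/
theorem Intr.exists_pow_eq (h : Intr x J) {j : ↥(𝒞 x)} (hj : (j : G) ∈ J)
    (ht : ∀ m : ℕ, Odd m → proj 2 (𝒞 x) j ^ m ≠ 1) : ∃ i : ℕ, (j : G) ^ i = x := by
  obtain ⟨m, hm, k, hk⟩ := exists_odd_pow_twoEl (j : G)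
  have h1 : (j : G) ^ m ≠ 1 := fun e => ht m hm (by
    rw [← map_pow, show j ^ m = 1 from Subtype.ext (by rw [coe_pow]; exact e), map_one])
  obtain ⟨s, -, hs⟩ := (Nat.dvd_prime_pow Nat.prime_two).1 (orderOf_dvd_of_pow_eq_one hk)
  have hev : Even (orderOf ((j : G) ^ m)) := by
    rw [hs]
    rcases s with _ | s
    · exact absurd (orderOf_eq_one_iff.1 (by simpa using hs)) h1
    · exact ⟨2 ^ s, by ring⟩
  refine ⟨m * (orderOf ((j : G) ^ m) / 2), h.uniq _ (pow_mem hj _) ?_⟩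
  rw [pow_mul]
  exact orderOf_pow_half hev

theorem Intr.invol_eq (h : Intr x J) {q : Qc x} (hq : q ∈ bar 2 (𝒞 x) J) (h2 : q * q = 1) (h1 : q ≠ 1) :
    q = (cx x) := by
  obtain ⟨j, hj, rfl⟩ := mem_bar.1 hq
  obtain ⟨i, hi⟩ := h.exists_pow_eq hj fun m hm => by rw [sq_pow_odd h2 hm]; exact h1
  have e : proj 2 (𝒞 x) j ^ i = (cx x) := by
    rw [← map_pow]; exact congrArg _ (Subtype.ext (by rw [coe_pow]; exact hi))
  rcases Nat.even_or_odd i with ⟨k, rfl⟩ | hodd
  · rw [← two_mul, pow_mul, pow_two, h2, one_pow] at e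
    exact absurd e.symm (proj_self_ne_one h.ord)
  · rwa [sq_pow_odd h2 hodd] at e

theorem Intr.quotEquiv [Fact (Nat.Prime 2)] (h : Intr x J) :
    Nonempty (↥(J.subgroupOf (𝒞 x)) ⧸ Cfsg.pPrimeCore 2 ↥(J.subgroupOf (𝒞 x)) ≃* ↥(bar 2 (𝒞 x) J)) := by
  set K := J.subgroupOf (𝒞 x)
  obtain ⟨f, hf⟩ : ∃ f : ↥K →* ↥(bar 2 (𝒞 x) J), f = (proj 2 (𝒞 x)).subgroupMap K := ⟨_, rfl⟩
  have hker : f.ker = Cfsg.pPrimeCore 2 ↥K := by
    refine map_injective K.subtype_injective ?_
    rw [map_pPrimeCore_of_isSubnormal h.comp.2.1, hf]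
    ext z
    constructor
    · rintro ⟨y, hy, rfl⟩
      exact ⟨(QuotientGroup.eq_one_iff _).1 (congrArg Subtype.val (MonoidHom.mem_ker.1 hy)), y.2⟩
    · intro hz
      exact ⟨⟨z, hz.2⟩, MonoidHom.mem_ker.2 (Subtype.ext ((QuotientGroup.eq_one_iff z).2 hz.1)), rfl⟩
  exact ⟨(QuotientGroup.quotientMulEquivOfEq hker.symm).trans
    (QuotientGroup.quotientKerEquivOfSurjective f (hf ▸ MonoidHom.subgroupMap_surjective _ K))⟩

theorem Intr.card_center_bar [Fact (Nat.Prime 2)] (h : Intr x J) :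
    Nat.card (center ↥(bar 2 (𝒞 x) J)) = 2 := by
  obtain ⟨e⟩ := h.quotEquiv
  let e' : ↥J ⧸ Cfsg.oddCore ↥J ≃* ↥(bar 2 (𝒞 x) J) :=
    (QuotientGroup.congr _ _ (subgroupOfEquivOfLe h.le).symm
      (map_pPrimeCore_equiv (subgroupOfEquivOfLe h.le).symm 2)).trans e
  rw [← map_center_equiv e', card_map_of_injective (f := e'.toMonoidHom) e'.injective]
  exact h.cen

theorem Intr.central_eq [Fact (Nat.Prime 2)] (h : Intr x J) {q : Qc x} (hq : q ∈ bar 2 (𝒞 x) J)
    (hc : ∀ r ∈ bar 2 (𝒞 x) J, Commute q r) : q = 1 ∨ q = (cx x) := by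
  set X := bar 2 (𝒞 x) J
  have hz : (⟨(cx x), h.self_mem⟩ : ↥X) ∈ center ↥X :=
    mem_center_iff.2 fun g => Subtype.ext (proj_self_central (g : Qc x)).eq
  have hq' : (⟨q, hq⟩ : ↥X) ∈ center ↥X :=
    mem_center_iff.2 fun g => Subtype.ext (hc g g.2).eq.symm
  have hne : (1 : ↥(center ↥X)) ≠ ⟨_, hz⟩ := fun e => proj_self_ne_one h.ord
    (congrArg (fun t : ↥(center ↥X) => ((t : ↥X) : Qc x)) e).symm
  obtain ⟨u, w, -, huniv⟩ := Nat.card_eq_two_iff.1 h.card_center_bar
  have hmem : ∀ t : ↥(center ↥X), t = 1 ∨ t = ⟨_, hz⟩ := by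
    intro t
    have hu : ∀ t : ↥(center ↥X), t = u ∨ t = w := fun t => by
      simpa using (Set.ext_iff.1 huniv t).2 (Set.mem_univ t)
    rcases hu 1 with e1 | e1 <;> rcases hu ⟨_, hz⟩ with e2 | e2 <;> rcases hu t with e3 | e3
    all_goals first
      | exact Or.inl (e3.trans e1.symm)
      | exact Or.inr (e3.trans e2.symm)
      | exact absurd (e1.trans e2.symm) hne
  rcases hmem ⟨_, hq'⟩ with e | e
  · exact Or.inl (congrArg (fun t : ↥(center ↥X) => ((t : ↥X) : Qc x)) e)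
  · exact Or.inr (congrArg (fun t : ↥(center ↥X) => ((t : ↥X) : Qc x)) e)

theorem Intr.exists_noncentral [Fact (Nat.Prime 2)] (h : Intr x J) :
    ∃ q ∈ bar 2 (𝒞 x) J, TwoEl q ∧ ∃ r ∈ bar 2 (𝒞 x) J, ¬ Commute q r := by
  obtain ⟨q, k, hk, hq⟩ := exists_pElement_not_mem_center h.isComponent.2
    (dvd_card_of_isComponent (pPrimeCore_quotient_eq_bot Nat.prime_two) h.isComponent)
  refine ⟨q, q.2, ⟨k, by simpa using congrArg Subtype.val hk⟩, ?_⟩
  by_contra hc
  push Not at hc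
  exact hq (mem_center_iff.2 fun r => Subtype.ext (hc r r.2).eq.symm)

/-- An element of order four squaring to the central involution. -/
theorem Intr.exists_four [Fact (Nat.Prime 2)] (h : Intr x J) :
    ∃ w ∈ bar 2 (𝒞 x) J, w * w = (cx x) := by
  obtain ⟨q, hq, ⟨k, hk⟩, r, -, hqr⟩ := h.exists_noncentral
  have key : ∀ k (q : Qc x), q ∈ bar 2 (𝒞 x) J → q ^ 2 ^ k = 1 → q ≠ 1 → q ≠ (cx x) →
      ∃ w ∈ bar 2 (𝒞 x) J, w * w = (cx x) := by
    intro k
    induction k with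
    | zero => intro q _ hk h1; exact absurd (by simpa using hk) h1
    | succ k ih =>
      intro q hq hk h1 h2
      by_cases e : q * q = (cx x)
      · exact ⟨q, hq, e⟩
      · refine ih (q * q) (mul_mem hq hq) (by rw [← pow_two, ← pow_mul, ← pow_succ']; exact hk)
          (fun e' => h2 (h.invol_eq hq e' h1)) e
  refine key k q hq hk (fun e => hqr (e ▸ Commute.one_left r)) fun e => hqr ?_
  rw [e]
  exact (proj_self_central r).symm

/-- A common element of two different components is central. -/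
theorem Intr.eq_central_of_mem [Fact (Nat.Prime 2)] (h : Intr x J) {M : Subgroup (Qc x)}
    (hM : Cfsg.IsComponent M) (hne : M ≠ bar 2 (𝒞 x) J) {q : Qc x} (hq : q ∈ bar 2 (𝒞 x) J)
    (hqM : q ∈ M) : q = 1 ∨ q = (cx x) :=
  h.central_eq hq fun r hr => commutator_eq_bot_iff_forall.1 (components_commute hM h.isComponent hne) q hqM r hr

theorem Intr.proj_normalizer_iff [Fact (Nat.Prime 2)] (h : Intr x J) {g : ↥(𝒞 x)} :
    proj 2 (𝒞 x) g ∈ normalizer (bar 2 (𝒞 x) J : Set (Qc x)) ↔ (g : G) ∈ normalizer (J : Set G) := by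
  constructor
  · exact fun hg => normalizer_of_subgroupOf h.le (mem_normalizer_pComponent h.comp.2 hg)
  · intro hg
    refine le_normalizer_map (proj 2 (𝒞 x)) (mem_map_of_mem _ (mem_normalizer_iff.2 fun n => ?_))
    exact mem_normalizer_iff.1 hg (n : G)

/-! ### Transport -/

theorem map_centralizer_singleton {H : Type*} [Group H] (e : G ≃* H) (x : G) :
    (𝒞 x).map e.toMonoidHom = 𝒞 (e x) := by
  ext h
  rw [mem_map_equiv, mem_centralizer_singleton_iff, mem_centralizer_singleton_iff]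
  constructor
  · intro hh; simpa using congrArg e hh
  · intro hh; simpa using congrArg e.symm hh

theorem isPComponentOf_map {p : ℕ} [Fact p.Prime] {H : Type*} [Group H] [Finite H] (e : G ≃* H)
    {K M : Subgroup G} (h : Cfsg.IsPComponentOf p K M) :
    Cfsg.IsPComponentOf p (K.map e.toMonoidHom) (M.map e.toMonoidHom) := by
  refine ⟨map_mono h.1, ?_⟩
  have h1 := isPComponent_map_of_ker (f := (M.equivMapOfInjective e.toMonoidHom e.injective).toMonoidHom)
    (M.equivMapOfInjective e.toMonoidHom e.injective).surjective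
    (by rw [(MonoidHom.ker_eq_bot_iff _).2 (M.equivMapOfInjective e.toMonoidHom e.injective).injective,
      card_bot]; exact (Fact.out : p.Prime).not_dvd_one) h.2
  convert h1 using 1
  refine map_injective (M.map e.toMonoidHom).subtype_injective ?_
  rw [map_subgroupOf_eq_of_le (map_mono h.1), Subgroup.map_map,
    show (M.map e.toMonoidHom).subtype.comp (M.equivMapOfInjective e.toMonoidHom e.injective).toMonoidHom =
      e.toMonoidHom.comp M.subtype from MonoidHom.ext fun _ => rfl,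
    ← Subgroup.map_map, map_subgroupOf_eq_of_le h.1]

theorem pLayerOf_map {p : ℕ} [Fact p.Prime] {H : Type*} [Group H] [Finite H] (e : G ≃* H)
    (M : Subgroup G) :
    (Cfsg.pLayerOf p M).map e.toMonoidHom = Cfsg.pLayerOf p (M.map e.toMonoidHom) := by
  rw [Cfsg.pLayerOf, Cfsg.pLayerOf,
    ← map_pLayer_equiv (p := p) (M.equivMapOfInjective e.toMonoidHom e.injective), Subgroup.map_map,
    Subgroup.map_map]
  rfl

theorem Intr.map [Fact (Nat.Prime 2)] {H : Type*} [Group H] [Finite H] (h : Intr x J) (e : G ≃* H) :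
    Intr (e x) (J.map e.toMonoidHom) where
  ord := (orderOf_injective e.toMonoidHom e.injective x).trans h.ord
  comp := map_centralizer_singleton e x ▸ isPComponentOf_map e h.comp
  mem := mem_map_of_mem _ h.mem
  uniq := by
    rintro _ ⟨t, ht, rfl⟩ ho
    exact congrArg e (h.uniq t ht ((orderOf_injective e.toMonoidHom e.injective t).symm.trans ho))
  cen := by
    set f := J.equivMapOfInjective e.toMonoidHom e.injective
    let f' := QuotientGroup.congr (Cfsg.oddCore ↥J) (Cfsg.oddCore ↥(J.map e.toMonoidHom)) f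
      (map_pPrimeCore_equiv f 2)
    rw [← map_center_equiv f', card_map_of_injective (f := f'.toMonoidHom) f'.injective]
    exact h.cen

theorem Intr.conj [Fact (Nat.Prime 2)] (h : Intr x J) (g : G) :
    Intr (g * x * g⁻¹) (J.map (MulAut.conj g).toMonoidHom) := h.map (MulAut.conj g)

end CfsgLib.Invol.IntrinsicSL
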