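import Cfsg.Agent.Lib.Invol.IntrinsicSL.Basic

/-!
# Two-components of `C(x) ∩ C(y)`

They lie in the two-layer of `C(y)` and either lie in or centralize each component fixed by `x`.
-/

set_option autoImplicit false
set_option linter.style.haveILetI false
set_option linter.unusedSectionVars false

namespace CfsgLib.Invol.IntrinsicSL

open Subgroup CfsgLib.Coprime CfsgLib.Invol.PTerminal
open scoped commutatorElement

variable {G : Type*} [Group G] [Finite G] [Fact (Nat.Prime 2)]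

local notation "𝒞" x:max => Subgroup.centralizer ({x} : Set _)

theorem pClosure_eq_self {K H : Subgroup G} (hK : Cfsg.IsPComponentOf 2 K H) : pClosure 2 K = K :=
  CfsgLib.Invol.PTerminal.pClosure_eq hK

theorem commutator_self_of {K H : Subgroup G} (hK : Cfsg.IsPComponentOf 2 K H) : ⁅K, K⁆ = K := by
  have := congrArg (Subgroup.map H.subtype) (commutator_self_pComponent hK.2)
  rwa [map_commutator, map_subgroupOf_eq_of_le hK.1] at this

theorem mem_of_twoEl {K H : Subgroup G} (hK : Cfsg.IsPComponentOf 2 K H) {g : G} (hg : g ∈ pClosure 2 K) :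
    g ∈ K := pClosure_eq_self hK ▸ hg

/-- L-balance. -/
theorem le_pLayerOf {x y : G} (hx : orderOf x = 2) (hxy : x ∈ 𝒞 y) {P : Subgroup G}
    (hP : Cfsg.IsPComponentOf 2 P (𝒞 x ⊓ 𝒞 y)) : P ≤ Cfsg.pLayerOf 2 (𝒞 y) := by
  set I := 𝒞 x ⊓ 𝒞 y
  set R := zpowers (⟨x, hxy⟩ : ↥(𝒞 y))
  set T := centralizer (R : Set ↥(𝒞 y)) with hTdef
  have hT' : T = centralizer ({⟨x, hxy⟩} : Set ↥(𝒞 y)) := centralizer_zpowers_eq _
  have hmemT : ∀ g : I, inclusion (inf_le_right : I ≤ 𝒞 y) g ∈ T := fun g => by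
    rw [hT', mem_centralizer_singleton_iff]
    exact Subtype.ext (mem_centralizer_singleton_iff.1 (Subgroup.mem_inf.1 g.2).1)
  let e : I →* T := (inclusion (inf_le_right : I ≤ 𝒞 y)).codRestrict T hmemT
  have he : Function.Surjective e := by
    rintro ⟨t, ht⟩
    rw [hT', mem_centralizer_singleton_iff] at ht
    exact ⟨⟨t, Subgroup.mem_inf.2 ⟨mem_centralizer_singleton_iff.2 (congrArg Subtype.val ht), t.2⟩⟩, rfl⟩
  have heker : ¬ 2 ∣ Nat.card e.ker := by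
    rw [(MonoidHom.ker_eq_bot_iff e).2 fun g g' h => inclusion_injective _ (congrArg Subtype.val h),
      card_bot]
    decide
  have hPT := CfsgLib.Invol.PTerminal.isPComponent_map_of_ker he heker hP.2
  have hR : IsPGroup 2 R := isPGroup_zpowers (k := 1) (by
    rw [pow_one]; exact Subtype.ext (hx ▸ pow_orderOf_eq_one x))
  have h1 : ((P.subgroupOf I).map e).map T.subtype ≤ Cfsg.pLayer 2 ↥(𝒞 y) :=
    (map_mono (pComponent_le_pLayer hPT)).trans (lBalance_two R hR)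
  intro g hg
  exact ⟨_, h1 ⟨_, ⟨⟨g, hP.1 hg⟩, hg, rfl⟩, rfl⟩, rfl⟩

theorem proj_mem_layer {y g : G} (hg : g ∈ Cfsg.pLayerOf 2 (𝒞 y)) (h : g ∈ 𝒞 y) :
    proj 2 (𝒞 y) ⟨g, h⟩ ∈ Cfsg.layer (Qc y) := by
  obtain ⟨g', hg', rfl⟩ := hg
  exact map_pLayer.le (mem_map_of_mem _ hg')

theorem bar_le_layer {y : G} {P : Subgroup G} (h : P ≤ Cfsg.pLayerOf 2 (𝒞 y)) :
    bar 2 (𝒞 y) P ≤ Cfsg.layer (Qc y) := by
  rintro _ ⟨g, hg, rfl⟩
  exact proj_mem_layer (h hg) g.2

theorem mem_normalizer_of_pLayerOf {y : G} {K : Subgroup G} (hK : Cfsg.IsPComponentOf 2 K (𝒞 y)) {g : G}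
    (hg : g ∈ Cfsg.pLayerOf 2 (𝒞 y)) : g ∈ normalizer (K : Set G) := by
  obtain ⟨g', hg', rfl⟩ := hg
  exact normalizer_of_subgroupOf hK.1 (pLayer_le_normalizer_pComponent hK.2 hg')

/-- A two-element of `C(y)` over the layer lies in the two-layer. -/
theorem mem_pLayerOf_of_proj {y g : G} (h : g ∈ 𝒞 y) (ht : TwoEl g)
    (hl : proj 2 (𝒞 y) ⟨g, h⟩ ∈ Cfsg.layer (Qc y)) : g ∈ Cfsg.pLayerOf 2 (𝒞 y) := by
  obtain ⟨k, hk⟩ := ht
  refine ⟨⟨g, h⟩, pLayer_eq_pClosure.ge (mem_pClosure (k := k) (mem_comap.2 hl) ?_), rfl⟩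
  exact Subtype.ext hk

/-- The dichotomy. -/
theorem le_or_centralizes {x y : G} (hx : orderOf x = 2) (hxy : x ∈ 𝒞 y) {P : Subgroup G}
    (hP : Cfsg.IsPComponentOf 2 P (𝒞 x ⊓ 𝒞 y)) {M : Subgroup (Qc y)} (hM : Cfsg.IsComponent M)
    (hxM : proj 2 (𝒞 y) ⟨x, hxy⟩ ∈ normalizer (M : Set (Qc y))) :
    bar 2 (𝒞 y) P ≤ M ∨ bar 2 (𝒞 y) P ≤ centralizer (M : Set (Qc y)) := by
  classical
  set I := 𝒞 x ⊓ 𝒞 y with hI
  set π := proj 2 (𝒞 y) with hπ
  set a := π ⟨x, hxy⟩ with ha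
  have hPy : P ≤ 𝒞 y := hP.1.trans inf_le_right
  set R := bar 2 (𝒞 y) P with hR
  have hRl : R ≤ Cfsg.layer (Qc y) := bar_le_layer (le_pLayerOf hx hxy hP)
  have hRa : ∀ r ∈ R, Commute r a := by
    rintro _ ⟨g, hg, rfl⟩
    exact (show Commute g ⟨x, hxy⟩ from
      Subtype.ext (mem_centralizer_singleton_iff.1 (Subgroup.mem_inf.1 (hP.1 hg)).1)).map π
  let Ml : Subgroup I := (M.comap π).comap (inclusion (inf_le_right : I ≤ 𝒞 y))
  have hMl : Ml.IsSubnormal := (hM.1.comap π).comap _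
  rcases component_le_or_commutator_eq_bot hP.2.2.1 (hMl.map (QuotientGroup.mk'_surjective _)) with h | h
  · left
    have h1 : P.subgroupOf I ≤ Ml := by
      rw [eq_pComponentOver hP.2]
      refine le_trans (pClosure_mono (comap_mono h)) ?_
      refine pClosure_le_of_isSubnormal hMl fun hd =>
        pPrimeCore_not_dvd (G := I) Nat.prime_two (hd.trans ?_)
      rw [comap_map_eq, QuotientGroup.ker_mk']
      exact relIndex_sup_dvd_card _ _
    rintro _ ⟨g, hg, rfl⟩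
    exact h1 (x := ⟨g, hP.1 hg⟩) hg
  right
  set O := ((Cfsg.pPrimeCore 2 I).map (inclusion (inf_le_right : I ≤ 𝒞 y))).map π with hO
  have hOodd : ¬ 2 ∣ Nat.card O := fun hd => pPrimeCore_not_dvd (G := I) Nat.prime_two
    (hd.trans ((card_map_dvd _ π).trans (card_map_dvd _ _)))
  -- `[R, C_M(a)] ≤ O`
  have hRA : ∀ r ∈ R, ∀ m ∈ M, Commute m a → ⁅r, m⁆ ∈ O := by
    rintro _ ⟨g, hg, rfl⟩ m hm hma
    obtain ⟨m0, rfl⟩ := QuotientGroup.mk'_surjective _ m
    obtain ⟨m', hm', e⟩ := exists_lift_centralizer (zpowers_le.2 hxy) (isPGroup_zpowers_of hx)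
      (g := m0) (fun s hs => by
        obtain ⟨n, rfl⟩ := mem_zpowers_iff.1 hs
        rw [show (⟨x ^ n, zpowers_le.2 hxy hs⟩ : ↥(𝒞 y)) = (⟨x, hxy⟩ : ↥(𝒞 y)) ^ n from Subtype.ext (by simp),
          map_zpow]
        exact hma.zpow_right n)
    rw [centralizer_zpowers_eq] at hm'
    refine ⟨_, ⟨⁅(⟨g, hP.1 hg⟩ : I), (⟨m', Subgroup.mem_inf.2 ⟨hm', m'.2⟩⟩ : I)⁆,
      (QuotientGroup.eq_one_iff _).1 ?_, rfl⟩, ?_⟩
    · show QuotientGroup.mk' (Cfsg.pPrimeCore 2 I) _ = 1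
      rw [map_commutatorElement, commutatorElement_eq_one_iff_mul_comm]
      refine commutator_eq_bot_iff_forall.1 h _ (mem_map_of_mem _ ?_) _ (mem_map_of_mem _ ?_)
      · exact hg
      · show π m' ∈ M
        rw [hπ, e]; exact hm
    · rw [map_commutatorElement, map_commutatorElement]
      show ⁅π g, π m'⁆ = ⁅π g, π m0⁆
      rw [hπ, e]
  -- the action on `M`
  have hRN : R ≤ normalizer (M : Set (Qc y)) := hRl.trans (layer_le_normalizer_component hM)
  set N := normalizer (M : Set (Qc y)) with hN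
  let C := (centralizer (M : Set (Qc y))).subgroupOf N
  haveI hCn : C.Normal := (normal_subgroupOf_iff_le_normalizer (centralizer_le_normalizer _)).2
    (normalizer_le_normalizer_centralizer M)
  let ρ := QuotientGroup.mk' C
  have hρc : ∀ c : ↥N, (c : Qc y) ∈ centralizer (M : Set (Qc y)) → ρ c = 1 :=
    fun c h => (QuotientGroup.eq_one_iff c).2 (mem_subgroupOf.2 h)
  set R' := (R.subgroupOf N).map ρ with hR'
  have hperfR : ⁅R, R⁆ = R := by
    rw [hR, bar, ← map_commutator]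
    congr 1
    refine map_injective (𝒞 y).subtype_injective ?_
    rw [map_commutator, map_subgroupOf_eq_of_le hPy, commutator_self_of hP]
  have hperf : ⁅R', R'⁆ = R' := by
    rw [hR', ← map_commutator]
    congr 1
    refine map_injective N.subtype_injective ?_
    rw [map_commutator, map_subgroupOf_eq_of_le hRN, hperfR]
  set A' := ((M ⊓ centralizer ({a} : Set (Qc y))).subgroupOf N).map ρ with hA'
  set O' := (O.subgroupOf N).map ρ with hO'
  have hdec : ∀ r ∈ R, ∃ j ∈ M, ∃ z ∈ centralizer (M : Set (Qc y)), z ∈ M ∧ a * j * a⁻¹ = j * z ∧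
      j⁻¹ * r ∈ centralizer (M : Set (Qc y)) := by
    intro r hr
    obtain ⟨j, hj, c, hc, rfl⟩ := exists_mul_of_mem_layer hM (hRl hr)
    have hja : a * j * a⁻¹ ∈ M := (mem_normalizer_iff.1 hxM j).1 hj
    have hca : a * c * a⁻¹ ∈ centralizer (M : Set (Qc y)) :=
      (mem_normalizer_iff.1 (normalizer_le_normalizer_centralizer M hxM) c).1 hc
    have e : a * (j * c) * a⁻¹ = j * c := by rw [← (hRa _ hr).eq, mul_inv_cancel_right]
    refine ⟨j, hj, j⁻¹ * (a * j * a⁻¹), ?_, mul_mem (inv_mem hj) hja, by group, by rwa [inv_mul_cancel_left]⟩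
    have e' : j⁻¹ * (a * j * a⁻¹) = c * (a * c * a⁻¹)⁻¹ := by
      calc j⁻¹ * (a * j * a⁻¹) = j⁻¹ * (a * (j * c) * a⁻¹) * (a * c * a⁻¹)⁻¹ := by group
        _ = c * (a * c * a⁻¹)⁻¹ := by rw [e]; group
    rw [e']
    exact mul_mem hc (inv_mem hca)
  have h1 : ⁅R', R'⁆ ≤ A' := by
    rw [commutator_le]
    rintro _ ⟨⟨r, hrN⟩, hr, rfl⟩ _ ⟨⟨r', hrN'⟩, hr', rfl⟩
    obtain ⟨j, hj, z, hz, hzM, ez, hjr⟩ := hdec r hr
    obtain ⟨j', hj', z', hz', hzM', ez', hjr'⟩ := hdec r' hr'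
    have e1 : ∀ (r j : Qc y) (hrN : r ∈ N) (hj : j ∈ M), j⁻¹ * r ∈ centralizer (M : Set (Qc y)) →
        ρ ⟨r, hrN⟩ = ρ ⟨j, le_normalizer hj⟩ := by
      intro r j hrN hj h
      have := hρc ((⟨j, le_normalizer hj⟩ : ↥N)⁻¹ * ⟨r, hrN⟩) h
      rw [map_mul, map_inv, inv_mul_eq_one] at this
      exact this.symm
    rw [e1 r j hrN hj hjr, e1 r' j' hrN' hj' hjr', ← map_commutatorElement]
    refine mem_map_of_mem ρ (mem_subgroupOf.2 (Subgroup.mem_inf.2 ⟨?_, ?_⟩))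
    · show j * j' * j⁻¹ * j'⁻¹ ∈ M
      exact mul_mem (mul_mem (mul_mem hj hj') (inv_mem hj)) (inv_mem hj')
    · rw [mem_centralizer_singleton_iff]
      show ⁅j, j'⁆ * a = a * ⁅j, j'⁆
      have h1 : a * ⁅j, j'⁆ * a⁻¹ = ⁅j * z, j' * z'⁆ := by
        rw [← ez, ← ez']; exact map_commutatorElement (MulAut.conj a) j j'
      have h2 : ⁅j * z, j' * z'⁆ = ⁅j, j'⁆ := by
        have cz : ∀ t ∈ M, t * z = z * t := fun t ht => (mem_centralizer_iff.1 hz t ht)
        have cz' : ∀ t ∈ M, t * z' = z' * t := fun t ht => (mem_centralizer_iff.1 hz' t ht)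
        simp only [commutatorElement_def, mul_inv_rev]
        calc j * z * (j' * z') * (z⁻¹ * j⁻¹) * (z'⁻¹ * j'⁻¹)
            = j * (z * (j' * z')) * z⁻¹ * j⁻¹ * z'⁻¹ * j'⁻¹ := by group
          _ = j * ((j' * z') * z) * z⁻¹ * j⁻¹ * z'⁻¹ * j'⁻¹ := by rw [cz _ (mul_mem hj' hzM')]
          _ = j * j' * (z' * j⁻¹) * z'⁻¹ * j'⁻¹ := by group
          _ = j * j' * (j⁻¹ * z') * z'⁻¹ * j'⁻¹ := by rw [cz' _ (inv_mem hj)]
          _ = j * j' * j⁻¹ * j'⁻¹ := by group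
      rw [h2] at h1
      exact (mul_inv_eq_iff_eq_mul.1 h1).symm
  have h2 : R' ≤ O' := by
    conv_lhs => rw [← hperf]
    refine (commutator_mono le_rfl (hperf ▸ h1)).trans ?_
    rw [commutator_le]
    rintro _ ⟨⟨r, hrN⟩, hr, rfl⟩ _ ⟨⟨m, hmN⟩, hm, rfl⟩
    rw [← map_commutatorElement]
    refine mem_map_of_mem ρ (mem_subgroupOf.2 ?_)
    exact hRA r hr m (Subgroup.mem_inf.1 hm).1 (mem_centralizer_singleton_iff.1 (Subgroup.mem_inf.1 hm).2)
  have hclo : pClosure 2 R' = R' := by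
    rw [hR', ← map_pClosure]
    congr 1
    refine map_injective N.subtype_injective ?_
    rw [map_pClosure, map_subgroupOf_eq_of_le hRN, hR, ← bar_pClosure hPy, pClosure_eq_self hP]
  have hbot : R' = ⊥ := by
    rw [eq_bot_iff, ← hclo, pClosure, closure_le]
    rintro q ⟨hq, k, hk⟩
    refine mem_bot.2 (TwoEl.eq_one ⟨k, hk⟩ ?_)
    rw [Nat.odd_iff, ← Nat.two_dvd_ne_zero]
    intro hd
    refine hOodd (hd.trans ?_)
    rw [← Subgroup.orderOf_mk q (h2 hq)]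
    refine (_root_.orderOf_dvd_natCard _).trans ((card_map_dvd _ ρ).trans ?_)
    exact Subgroup.card_comap_dvd_of_injective O N.subtype N.subtype_injective
  intro r hr
  have h3 : ρ ⟨r, hRN hr⟩ ∈ (⊥ : Subgroup (N ⧸ C)) := hbot ▸ mem_map_of_mem ρ (mem_subgroupOf.2 hr)
  exact mem_subgroupOf.1 ((QuotientGroup.eq_one_iff _).1 (mem_bot.1 h3))

/-- The diagonal of a component and its conjugate under `y`. -/
theorem exists_diag {x y : G} {J : Subgroup G} (hJ : Intr x J) (hy : orderOf y = 2) (hyx : y ∈ 𝒞 x)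
    (hmv : y ∉ normalizer (J : Set G)) :
    ∃ D : Subgroup G, Cfsg.IsPComponentOf 2 D (𝒞 x ⊓ 𝒞 y) ∧
      ∀ (g : G) (hg : g ∈ 𝒞 x), g ∈ 𝒞 y → TwoEl g →
        (∃ m ∈ bar 2 (𝒞 x) J, proj 2 (𝒞 x) ⟨g, hg⟩ =
          m * (proj 2 (𝒞 x) ⟨y, hyx⟩ * m * (proj 2 (𝒞 x) ⟨y, hyx⟩)⁻¹)) → g ∈ D := by
  classical
  set π := proj 2 (𝒞 x) with hπ
  set a := π ⟨y, hyx⟩ with ha
  set X := bar 2 (𝒞 x) J with hX
  set X' := X.map (MulAut.conj a).toMonoidHom with hX'
  have hXc : Cfsg.IsComponent X := hJ.isComponent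
  have hX'c : Cfsg.IsComponent X' := isComponent_map_equiv _ hXc
  have ha2 : a * a = 1 := by
    rw [ha, ← map_mul, show (⟨y, hyx⟩ : ↥(𝒞 x)) * ⟨y, hyx⟩ = 1 from Subtype.ext (invol_mul_self hy), map_one]
  have hne : X ≠ X' := fun e => hmv ((hJ.proj_normalizer_iff (g := ⟨y, hyx⟩)).1 (by
    rw [mem_normalizer_iff]
    intro n
    conv_rhs => rw [← hX, e, hX', mem_map_equiv, MulAut.conj_symm_apply]
    rw [show a⁻¹ * (a * n * a⁻¹) * a = n by group]))
  have hcomm : ∀ m ∈ X, ∀ n ∈ X, Commute m (a * n * a⁻¹) := fun m hm n hn =>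
    commutator_eq_bot_iff_forall.1 (components_commute hXc hX'c hne) m hm _ (mem_map_of_mem _ hn)
  have hai : a⁻¹ = a := inv_eq_of_mul_eq_one_right ha2
  let Δ : X →* Qc x := MonoidHom.mk' (fun m => (m : Qc x) * (a * (m : Qc x) * a⁻¹)) fun m n => by
    have h := hcomm n n.2 m m.2
    calc ((m * n : X) : Qc x) * (a * ((m * n : X) : Qc x) * a⁻¹)
        = (m : Qc x) * ((n : Qc x) * (a * (m : Qc x) * a⁻¹)) * (a * (n : Qc x) * a⁻¹) := by
          rw [Subgroup.coe_mul]; group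
      _ = (m : Qc x) * ((a * (m : Qc x) * a⁻¹) * (n : Qc x)) * (a * (n : Qc x) * a⁻¹) := by rw [h.eq]
      _ = _ := by group
  set H := centralizer ({a} : Set (Qc x)) with hH
  have hΔH : ∀ m, Δ m ∈ H := fun m => by
    rw [hH, mem_centralizer_singleton_iff]
    show (m : Qc x) * (a * m * a⁻¹) * a = a * ((m : Qc x) * (a * m * a⁻¹))
    calc (m : Qc x) * (a * m * a⁻¹) * a = (a * m * a⁻¹) * (m : Qc x) * a := by rw [(hcomm m m.2 m m.2).eq]
      _ = a * ((m : Qc x) * (a⁻¹ * m * a)) := by group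
      _ = _ := by rw [hai]
  have hker : Δ.ker ≤ center ↥X := fun k hk => mem_center_iff.2 fun m => Subtype.ext (by
    have hk' : (k : Qc x) = (a * (k : Qc x) * a⁻¹)⁻¹ := eq_inv_of_mul_eq_one_left hk
    have h := (hcomm m m.2 k k.2).inv_right
    rw [← hk'] at h
    exact h.eq)
  haveI : Nontrivial Δ.range := by
    obtain ⟨q, hq, -, r, hr, hqr⟩ := hJ.exists_noncentral
    refine (Subgroup.nontrivial_iff_ne_bot _).2 fun e => hqr ?_
    have h1 : (⟨q, hq⟩ : X) ∈ Δ.ker := MonoidHom.mem_ker.2 (mem_bot.1 (e ▸ ⟨⟨q, hq⟩, rfl⟩))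
    exact (congrArg Subtype.val (mem_center_iff.1 (hker h1) ⟨r, hr⟩)).symm
  have hRq : Cfsg.IsQuasisimple Δ.range :=
    CfsgLib.Invol.BLayer.isQuasisimple_of_surjective hXc.2 Δ.rangeRestrict_surjective
  have hRO : Cfsg.pPrimeCore 2 Δ.range = ⊥ := by
    rw [eq_bot_iff]
    intro n hn
    have hodd : Odd (orderOf n) := by
      rw [Nat.odd_iff, ← Nat.two_dvd_ne_zero]
      intro hd
      refine pPrimeCore_not_dvd (G := Δ.range) Nat.prime_two (hd.trans ?_)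
      rw [← Subgroup.orderOf_mk n hn]
      exact orderOf_dvd_natCard _
    rcases subnormal_eq_top_or_le_center hXc.2
      ((Normal.isSubnormal (inferInstance : (Cfsg.pPrimeCore 2 Δ.range).Normal)).comap Δ.rangeRestrict) with h | h
    · exfalso
      obtain ⟨q, hq, ⟨k, hk⟩, r, hr, hqr⟩ := hJ.exists_noncentral
      have h1 : Δ.rangeRestrict ⟨q, hq⟩ ∈ Cfsg.pPrimeCore 2 Δ.range := mem_comap.1 (h ▸ mem_top _)
      have h2 : Δ.rangeRestrict ⟨q, hq⟩ = 1 := by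
        refine TwoEl.eq_one ⟨k, ?_⟩ ?_
        · rw [← map_pow, show (⟨q, hq⟩ : X) ^ 2 ^ k = 1 from Subtype.ext hk, map_one]
        · rw [Nat.odd_iff, ← Nat.two_dvd_ne_zero]
          intro hd
          refine pPrimeCore_not_dvd (G := Δ.range) Nat.prime_two (hd.trans ?_)
          rw [← Subgroup.orderOf_mk _ h1]
          exact orderOf_dvd_natCard _
      exact hqr (congrArg Subtype.val (mem_center_iff.1 (hker (MonoidHom.mem_ker.2
        (congrArg Subtype.val h2))) ⟨r, hr⟩)).symm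
    · obtain ⟨m, rfl⟩ := Δ.rangeRestrict_surjective n
      have hm : m ∈ center ↥X := h (mem_comap.2 hn)
      have hm2 : m * m = 1 := by
        rcases hJ.central_eq m.2 (fun r hr => (congrArg Subtype.val (mem_center_iff.1 hm ⟨r, hr⟩)).symm) with e | e
        · exact Subtype.ext (by rw [Subgroup.coe_mul, e, one_mul]; rfl)
        · exact Subtype.ext (by rw [Subgroup.coe_mul, e]; exact proj_self_sq hJ.ord)
      exact mem_bot.2 ((twoEl_of_sq (show Δ.rangeRestrict m * Δ.rangeRestrict m = 1 by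
        rw [← map_mul, hm2, map_one])).eq_one hodd)
  -- the diagonal is subnormal in `C(a)`
  have hsub : (Δ.range.subgroupOf H).IsSubnormal := by
    haveI := layer_normal (G := Qc x)
    haveI hn : ((Cfsg.layer (Qc x)).subgroupOf H).Normal := inferInstance
    have hΔE : Δ.range ≤ Cfsg.layer (Qc x) := by
      rintro _ ⟨m, rfl⟩
      exact mul_mem (component_le_layer hXc m.2) (component_le_layer hX'c (mem_map_of_mem _ m.2))
    refine IsSubnormal.trans (comap_mono hΔE) (Normal.isSubnormal ?_) (Normal.isSubnormal hn)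
    refine ⟨fun u hu g => ?_⟩
    obtain ⟨m, hm⟩ : ((u : H) : Qc x) ∈ Δ.range := hu
    have hgX := layer_le_normalizer_component hXc (mem_subgroupOf.1 g.2)
    have hga : ((g : H) : Qc x) * a = a * ((g : H) : Qc x) := mem_centralizer_singleton_iff.1 (g : H).2
    set q := ((g : H) : Qc x) with hq
    refine ⟨⟨q * m * q⁻¹, (mem_normalizer_iff.1 hgX m).1 m.2⟩, ?_⟩
    show q * m * q⁻¹ * (a * (q * m * q⁻¹) * a⁻¹) = q * ((u : H) : Qc x) * q⁻¹
    rw [← hm]
    show q * m * q⁻¹ * (a * (q * m * q⁻¹) * a⁻¹) = q * ((m : Qc x) * (a * m * a⁻¹)) * q⁻¹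
    calc q * m * q⁻¹ * (a * (q * m * q⁻¹) * a⁻¹)
        = q * m * q⁻¹ * ((a * q) * m * (a * q)⁻¹) := by group
      _ = q * m * q⁻¹ * ((q * a) * m * (q * a)⁻¹) := by rw [hga]
      _ = _ := by group
  set I := 𝒞 x ⊓ 𝒞 y with hI
  have hfmem : ∀ g : I, π (inclusion (inf_le_left : I ≤ 𝒞 x) g) ∈ H := fun g => by
    rw [hH, mem_centralizer_singleton_iff, ha, ← map_mul, ← map_mul]
    exact congrArg π (Subtype.ext (mem_centralizer_singleton_iff.1 (Subgroup.mem_inf.1 g.2).2))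
  let f : I →* H := (π.comp (inclusion (inf_le_left : I ≤ 𝒞 x))).codRestrict H hfmem
  set N := (Δ.range.subgroupOf H).comap f with hN
  let φ : N →* Δ.range :=
    (π.comp ((inclusion (inf_le_left : I ≤ 𝒞 x)).comp N.subtype)).codRestrict _ fun g => g.2
  have hφ : Function.Surjective φ := by
    rintro ⟨_, ⟨m, rfl⟩⟩
    obtain ⟨g0, hg0⟩ := QuotientGroup.mk'_surjective _ (Δ m)
    obtain ⟨g', hg', e⟩ := exists_lift_centralizer (zpowers_le.2 hyx) (isPGroup_zpowers_of hy)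
      (g := g0) (fun s hs => by
        obtain ⟨n, rfl⟩ := mem_zpowers_iff.1 hs
        rw [show (⟨y ^ n, zpowers_le.2 hyx hs⟩ : ↥(𝒞 x)) = (⟨y, hyx⟩ : ↥(𝒞 x)) ^ n from Subtype.ext (by simp),
          map_zpow]
        refine Commute.zpow_right ?_ n
        rw [show proj 2 (𝒞 x) g0 = Δ m from hg0]
        exact mem_centralizer_singleton_iff.1 (hΔH m))
    rw [centralizer_zpowers_eq] at hg'
    have e' : π g' = Δ m := by rw [hπ, e]; exact hg0
    exact ⟨⟨⟨g', Subgroup.mem_inf.2 ⟨g'.2, hg'⟩⟩, show π g' ∈ Δ.range from e' ▸ ⟨m, rfl⟩⟩, Subtype.ext e'⟩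
  have hφker : ¬ 2 ∣ Nat.card φ.ker := by
    intro hd
    refine not_dvd_card_of_proj (p := 2) (inf_le_left : I ≤ 𝒞 x) (N := φ.ker.map N.subtype) ?_
      (by rwa [card_map_of_injective N.subtype_injective])
    rintro _ ⟨g, hg, rfl⟩
    exact congrArg Subtype.val (MonoidHom.mem_ker.1 hg)
  obtain ⟨hcomp, -⟩ := pComponent_of_surjective hRq hRO hφ hφker
  have hNs : N.IsSubnormal := hsub.comap f
  refine ⟨((pClosure 2 (⊤ : Subgroup N)).map N.subtype).map I.subtype, ⟨map_subtype_le _, ?_⟩, ?_⟩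
  · rw [show (((pClosure 2 (⊤ : Subgroup N)).map N.subtype).map I.subtype).subgroupOf I =
        (pClosure 2 (⊤ : Subgroup N)).map N.subtype from comap_map_eq_self_of_injective I.subtype_injective _]
    exact (isPComponent_map_subtype_iff hNs _).2 hcomp
  · rintro g hg hgy ⟨k, hk⟩ ⟨m, hm, e⟩
    have hgN : (⟨g, Subgroup.mem_inf.2 ⟨hg, hgy⟩⟩ : I) ∈ N := ⟨⟨m, hm⟩, e.symm⟩
    exact ⟨_, ⟨⟨_, hgN⟩, mem_pClosure (k := k) (mem_top _) (Subtype.ext (Subtype.ext hk)), rfl⟩, rfl⟩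

end CfsgLib.Invol.IntrinsicSL
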