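import Cfsg.Agent.Lib.Invol.IntrinsicSL.Quat

/-!
# No two-element of `K` moves `J`

The involutions `a` and `b` are each in the two-layer of the other centralizer; this makes an
involution that moves `K` normalize it.
-/

set_option autoImplicit false
set_option linter.style.haveILetI false
set_option linter.unusedSectionVars false

namespace CfsgLib.Invol.IntrinsicSL

open Subgroup CfsgLib.Coprime CfsgLib.Invol.PTerminal
open scoped commutatorElement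

variable {G : Type*} [Group G] [Finite G] [Fact (Nat.Prime 2)]

local notation "𝒞" x:max => Subgroup.centralizer ({x} : Set _)

variable {a b z : G} {J K : Subgroup G}

namespace Moving

variable (S : Moving a b J K z)
include S

/-- The conjugate of the image of `z` in `Qc b` by `H`. -/
abbrev T {H : G} (hH : H ∈ 𝒞 b) : Qc b :=
  proj 2 (𝒞 b) ⟨H, hH⟩ * S.Zb * (proj 2 (𝒞 b) ⟨H, hH⟩)⁻¹

theorem conj_image_ne {H : G} (hH : H ∈ 𝒞 b) (hN : H ∉ normalizer (K : Set G)) :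
    (bar 2 (𝒞 b) K).map (MulAut.conj (proj 2 (𝒞 b) ⟨H, hH⟩)).toMonoidHom ≠ bar 2 (𝒞 b) K := fun e => hN
  ((S.hK.proj_normalizer_iff (g := ⟨H, hH⟩)).1 (mem_normalizer_iff.2 fun n => by
    conv_rhs => rw [← e, mem_map_equiv, MulAut.conj_symm_apply]
    rw [show (proj 2 (𝒞 b) ⟨H, hH⟩)⁻¹ * (proj 2 (𝒞 b) ⟨H, hH⟩ * n * (proj 2 (𝒞 b) ⟨H, hH⟩)⁻¹) *
      proj 2 (𝒞 b) ⟨H, hH⟩ = n by group]))

theorem Zb_mem : S.Zb ∈ bar 2 (𝒞 b) K := proj_mem_bar (g := ⟨z, S.memB⟩) S.mem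

theorem T_mem {H : G} (hH : H ∈ 𝒞 b) :
    S.T hH ∈ (bar 2 (𝒞 b) K).map (MulAut.conj (proj 2 (𝒞 b) ⟨H, hH⟩)).toMonoidHom :=
  mem_map_of_mem _ S.Zb_mem

theorem Zb_commute_T {H : G} (hH : H ∈ 𝒞 b) (hN : H ∉ normalizer (K : Set G)) : Commute S.Zb (S.T hH) :=
  commutator_eq_bot_iff_forall.1 (components_commute S.hK.isComponent
    (isComponent_map_equiv _ S.hK.isComponent) (S.conj_image_ne hH hN).symm) _ S.Zb_mem _ (S.T_mem hH)

theorem Za_sq : S.Za * S.Za = S.Ba := by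
  rw [← map_mul]; exact congrArg _ (Subtype.ext S.sq_eq)

theorem Zb_sq : S.Zb * S.Zb = cx b := by
  rw [← map_mul]; exact congrArg _ (Subtype.ext S.sq_eq)

theorem Za_inv : S.Za⁻¹ = S.Za * S.Ba :=
  inv_eq_of_mul_eq_one_right (by rw [← mul_assoc, S.Za_sq, S.Ba_sq])

theorem Zb_twoEl : TwoEl S.Zb :=
  TwoEl.map (f := proj 2 (𝒞 b)) (g := ⟨z, S.memB⟩) (let ⟨k, hk⟩ := S.two; ⟨k, Subtype.ext hk⟩)

/-- What a lift of `g (z g z⁻¹)` gives. -/
theorem pair_data {g : Qc a} (hgX : g ∈ bar 2 (𝒞 a) J) (hg : S.Ba * g * S.Ba⁻¹ = g * cx a) {H : ↥(𝒞 a)}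
    (hHb : (H : G) ∈ 𝒞 b) (eH : proj 2 (𝒞 a) H = g * (S.Za * g * S.Za⁻¹)) :
    (H : G) ∉ normalizer (K : Set G) ∧
      S.Za * proj 2 (𝒞 a) H * S.Za⁻¹ = cx a * proj 2 (𝒞 a) H ∧
      S.Za⁻¹ * proj 2 (𝒞 a) H * S.Za = cx a * proj 2 (𝒞 a) H ∧
      proj 2 (𝒞 b) ⟨a, S.aB⟩ = (S.Zb⁻¹ * S.T hHb)⁻¹ ∧ a ∈ Cfsg.pLayerOf 2 (𝒞 b) := by
  have hcx2 : cx a * cx a = 1 := proj_self_sq S.hJ.ord
  have hs : S.Za * proj 2 (𝒞 a) H * S.Za⁻¹ * (proj 2 (𝒞 a) H)⁻¹ = cx a := by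
    rw [eH, S.pair_comm hgX, S.Za_sq, hg, mul_assoc, (proj_self_central g⁻¹).symm.eq, ← mul_assoc,
      mul_inv_cancel, one_mul]
  obtain ⟨hN, -⟩ := S.key hHb (hs.symm ▸ S.hJ.self_mem) (hs.symm ▸ twoEl_of_sq hcx2)
    (hs.symm ▸ proj_self_ne_one S.hJ.ord)
  set h := proj 2 (𝒞 a) H with hh
  have e1 : S.Za * h * S.Za⁻¹ = cx a * h := mul_inv_eq_iff_eq_mul.1 hs
  have e2 : S.Za⁻¹ * h * S.Za = cx a * h := by
    have h1 : S.Za * h = cx a * h * S.Za := mul_inv_eq_iff_eq_mul.1 e1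
    calc S.Za⁻¹ * h * S.Za = S.Za⁻¹ * (cx a * cx a * h * S.Za) := by rw [hcx2, one_mul]; group
      _ = S.Za⁻¹ * (cx a * (cx a * h * S.Za)) := by group
      _ = S.Za⁻¹ * (cx a * S.Za * h) := by rw [← h1]; group
      _ = S.Za⁻¹ * (S.Za * cx a * h) := by rw [← (proj_self_central S.Za).eq]
      _ = cx a * h := by group
  refine ⟨hN, e1, e2, ?_⟩
  set v : G := z⁻¹ * ((H : G) * z * (H : G)⁻¹) with hv
  have hva : v ∈ 𝒞 a := mul_mem (inv_mem S.memA) (mul_mem (mul_mem H.2 S.memA) (inv_mem H.2))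
  have hvb : v ∈ 𝒞 b := mul_mem (inv_mem S.memB) (mul_mem (mul_mem hHb S.memB) (inv_mem hHb))
  have ev : proj 2 (𝒞 a) ⟨v, hva⟩ = cx a := by
    rw [show (⟨v, hva⟩ : ↥(𝒞 a)) = ⟨z, S.memA⟩⁻¹ * (H * ⟨z, S.memA⟩ * H⁻¹) from Subtype.ext rfl,
      map_mul, map_mul, map_mul, map_inv, map_inv]
    show S.Za⁻¹ * (h * S.Za * h⁻¹) = cx a
    calc S.Za⁻¹ * (h * S.Za * h⁻¹) = S.Za⁻¹ * h * S.Za * h⁻¹ := by group
      _ = _ := by rw [e2, mul_assoc, mul_inv_cancel, mul_one]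
  have evb : proj 2 (𝒞 b) ⟨v, hvb⟩ = S.Zb⁻¹ * S.T hHb := by
    rw [show (⟨v, hvb⟩ : ↥(𝒞 b)) = ⟨z, S.memB⟩⁻¹ * (⟨H, hHb⟩ * ⟨z, S.memB⟩ * (⟨H, hHb⟩ : ↥(𝒞 b))⁻¹) from
      Subtype.ext rfl, map_mul, map_mul, map_mul, map_inv, map_inv]
  have hodd : Odd (orderOf (v * a)) := odd_of_proj (g := (⟨v, hva⟩ * self' a : ↥(𝒞 a))) (by
    rw [map_mul, ev]; exact hcx2)
  have hvat : proj 2 (𝒞 b) (⟨v, hvb⟩ * ⟨a, S.aB⟩) = 1 := by
    refine proj_eq_one_of_odd_twoEl hodd ?_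
    rw [map_mul]
    refine TwoEl.mul ?_ (twoEl_of_sq ?_) ?_
    · rw [evb]
      exact S.Zb_twoEl.inv.mul (S.Zb_twoEl.conj _) (S.Zb_commute_T hHb hN).inv_left
    · rw [← map_mul, show (⟨a, S.aB⟩ : ↥(𝒞 b)) * ⟨a, S.aB⟩ = 1 from Subtype.ext (invol_mul_self S.hJ.ord),
        map_one]
    · exact (show Commute (⟨v, hvb⟩ : ↥(𝒞 b)) ⟨a, S.aB⟩ from Subtype.ext (commute_of_mem hva)).map _
  rw [map_mul, evb] at hvat
  have ea := eq_inv_of_mul_eq_one_right hvat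
  refine ⟨ea, mem_pLayerOf_of_proj S.aB (twoEl_of_sq (invol_mul_self S.hJ.ord)) ?_⟩
  rw [ea]
  exact inv_mem (mul_mem (inv_mem (component_le_layer S.hK.isComponent S.Zb_mem))
    (component_le_layer (isComponent_map_equiv _ S.hK.isComponent) (S.T_mem hHb)))

theorem Ba_mem_layer : S.Ba ∈ Cfsg.layer (Qc a) := by
  obtain ⟨g, hgX, hg⟩ := S.hJ.exists_moved S.Ba_sq
    ((S.hJ.proj_normalizer_iff (g := ⟨b, S.bA⟩)).2 S.hbJ) S.not_centralizes_J
  obtain ⟨H, hHb, eH⟩ := S.exists_lift (S.pair_commute hg)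
  obtain ⟨-, -, -, -, haL⟩ := S.pair_data hgX hg hHb eH
  obtain ⟨g1, hg1, e1⟩ := exists_conj_mul S.hJ.ord S.hK.ord S.hne S.bA hg
  obtain ⟨k, -, hk⟩ := S.hK.exists_moved (a := proj 2 (𝒞 b) ⟨a, S.aB⟩) (by
    rw [← map_mul, show (⟨a, S.aB⟩ : ↥(𝒞 b)) * ⟨a, S.aB⟩ = 1 from Subtype.ext (invol_mul_self S.hJ.ord),
      map_one]) ((S.hK.proj_normalizer_iff (g := ⟨a, S.aB⟩)).2 S.haK) S.not_centralizes_K
  obtain ⟨g2, hg2, e2⟩ := exists_conj_mul S.hK.ord S.hJ.ord S.hne.symm S.aB hk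
  have hga : g1 * a * g1⁻¹ = a := by rw [(commute_of_mem hg1).eq, mul_inv_cancel_right]
  have h1 : a ∈ Cfsg.pLayerOf 2 (𝒞 (a * b)) := by
    have h := mem_map_of_mem (MulAut.conj g1).toMonoidHom haL
    rw [pLayerOf_map, map_centralizer_singleton] at h
    simp only [MulEquiv.coe_toMonoidHom, MulAut.conj_apply, e1, hga] at h
    exact h
  have h2 : b * a ∈ Cfsg.pLayerOf 2 (𝒞 a) := by
    have h := mem_map_of_mem (MulAut.conj g2).toMonoidHom h1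
    rw [pLayerOf_map, map_centralizer_singleton] at h
    have e3 : g2 * (a * b) * g2⁻¹ = a := by
      calc g2 * (a * b) * g2⁻¹ = (g2 * a * g2⁻¹) * (g2 * b * g2⁻¹) := by group
        _ = b * a * b := by rw [e2, (commute_of_mem hg2).eq, mul_inv_cancel_right]
        _ = a := by rw [← S.hab.eq, mul_assoc, invol_mul_self S.hK.ord, mul_one]
    simp only [MulEquiv.coe_toMonoidHom, MulAut.conj_apply, e2, e3] at h
    exact h
  have h3 : a ∈ Cfsg.pLayerOf 2 (𝒞 a) :=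
    ⟨⟨a, mem_of_commute (Commute.refl a)⟩, pComponent_le_pLayer S.hJ.comp.2 (mem_subgroupOf.2 S.hJ.mem), rfl⟩
  have h4 := mul_mem h2 h3
  rw [mul_assoc, invol_mul_self S.hJ.ord, mul_one] at h4
  exact proj_mem_layer h4 S.bA

/-- No such `z` exists. -/
theorem absurd' : False := by
  classical
  set X := bar 2 (𝒞 a) J with hX
  have hcne : cx a ≠ 1 := proj_self_ne_one S.hJ.ord
  have hcx2 : cx a * cx a = 1 := proj_self_sq S.hJ.ord
  obtain ⟨w, hw, r, hr, eBa⟩ := exists_mul_of_mem_layer S.hJ.isComponent S.Ba_mem_layer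
  have hrc : ∀ t ∈ X, Commute r t := fun t ht => (mem_centralizer_iff.1 hr t ht).symm
  have hact : ∀ t ∈ X, S.Ba * t * S.Ba⁻¹ = w * t * w⁻¹ := fun t ht => by
    calc S.Ba * t * S.Ba⁻¹ = w * (r * t * r⁻¹) * w⁻¹ := by rw [eBa]; group
      _ = w * t * w⁻¹ := by rw [(hrc t ht).eq, mul_inv_cancel_right]
  have hw2 : w * w = cx a := by
    have hc : ∀ t ∈ X, Commute (w * w) t := fun t ht => by
      have h1 : w * w * (r * r) = 1 := by
        rw [← S.Ba_sq, eBa, (hrc w hw).mul_mul_mul_comm]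
      rw [eq_inv_of_mul_eq_one_left h1]
      exact ((hrc t ht).mul_left (hrc t ht)).inv_left
    refine (S.hJ.central_eq (mul_mem hw hw) hc).resolve_left fun h => ?_
    have hwc : ∀ t ∈ X, Commute w t := fun t ht => by
      by_cases h1 : w = 1
      · rw [h1]; exact Commute.one_left t
      · rw [S.hJ.invol_eq hw h h1]; exact (proj_self_central t).symm
    refine S.not_centralizes_J (mem_centralizer_iff.2 fun t ht => ?_)
    have := hact t ht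
    rw [(hwc t ht).eq, mul_inv_cancel_right] at this
    exact (mul_inv_eq_iff_eq_mul.1 this).symm
  obtain ⟨γ, hγ, hγw⟩ := S.hJ.exists_anticommute hw hw2
  set x := γ * w * γ⁻¹ with hx
  have hxX : x ∈ X := mul_mem (mul_mem hγ hw) (inv_mem hγ)
  have hBx : S.Ba * x * S.Ba⁻¹ = x * cx a := (hact x hxX).trans hγw
  have hBw : S.Ba * w * S.Ba⁻¹ = w := by rw [hact w hw, mul_inv_cancel_right]
  have hx2 : x * x = cx a := by
    calc x * x = γ * (w * w) * γ⁻¹ := by rw [hx]; group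
      _ = _ := by rw [hw2, (proj_self_central γ).eq, mul_inv_cancel_right]
  have hcV : S.Za * cx a * S.Za⁻¹ = cx a := by
    rw [(proj_self_central S.Za).eq, mul_inv_cancel_right]
  set w' := S.Za * w * S.Za⁻¹ with hw'
  set x' := S.Za * x * S.Za⁻¹ with hx'
  have hw'2 : w' * w' = cx a := by rw [hw', ← hcV, ← hw2]; group
  have hx'2 : x' * x' = cx a := by rw [hx', ← hcV, ← hx2]; group
  have nowin : ∀ t ∈ X, t * t = cx a → S.Za * t * S.Za⁻¹ ∉ X := fun t ht h2 h => by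
    rcases S.eq_central ht h with e | e <;> rw [e] at h2
    · exact hcne (by rw [← h2, one_mul])
    · exact hcne (by rw [← h2, hcx2])
  have inv4 : ∀ t : Qc a, t * t = cx a → t⁻¹ = t * cx a := fun t h =>
    inv_eq_of_mul_eq_one_right (by rw [← mul_assoc, h, hcx2])
  -- the involution `H`
  set h := x * x' with hh
  have hh2 : h * h = 1 := by
    rw [hh, (S.commute_image hxX hxX).symm.mul_mul_mul_comm, hx2, hx'2, hcx2]
  have hh1 : h ≠ 1 := fun e => nowin x hxX hx2 (by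
    show x' ∈ X
    rw [eq_inv_of_mul_eq_one_right e]
    exact inv_mem hxX)
  have hhcx : h ≠ cx a := fun e => nowin x hxX hx2 (by
    show x' ∈ X
    rw [eq_inv_mul_of_mul_eq e]
    exact mul_mem (inv_mem hxX) S.hJ.self_mem)
  obtain ⟨H, hHo, hHb, eH⟩ := exists_invol_lift S.hK.ord S.bA hh2 hh1 (S.pair_commute hBx)
  obtain ⟨hHN, eH1, eH2, eab, haL⟩ := S.pair_data hxX hBx hHb eH
  rw [eH] at eH1 eH2
  -- the element `W`
  have hwB : Commute w S.Ba := (mul_inv_eq_iff_eq_mul.1 hBw).symm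
  obtain ⟨W, hWb, eW⟩ := S.exists_lift hwB
  set u := w' * w⁻¹ with hu
  have hww : Commute w' w⁻¹ := ((S.commute_image hw hw).symm).inv_right
  have hwi2 : w⁻¹ * w⁻¹ = cx a := by
    rw [← mul_inv_rev, hw2, inv_eq_of_mul_eq_one_right hcx2]
  have hu2 : u * u = 1 := by
    rw [hu, hww.symm.mul_mul_mul_comm, hw'2, hwi2, hcx2]
  have hu1 : u ≠ 1 := fun e => nowin w hw hw2 (by
    show w' ∈ X
    rw [mul_inv_eq_one.1 e]; exact hw)
  have hucx : u ≠ cx a := fun e => nowin w hw hw2 (by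
    show w' ∈ X
    rw [mul_inv_eq_iff_eq_mul.1 e]; exact mul_mem S.hJ.self_mem hw)
  have hxw : x * w * x⁻¹ = w * cx a := by
    have h1 : w * x = x * cx a * w := mul_inv_eq_iff_eq_mul.1 hγw
    refine mul_inv_eq_iff_eq_mul.2 ?_
    calc x * w = x * (cx a * cx a) * w := by rw [hcx2, mul_one]
      _ = x * cx a * (cx a * w) := by group
      _ = x * cx a * (w * cx a) := by rw [(proj_self_central w).eq]
      _ = (x * cx a * w) * cx a := by group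
      _ = w * (x * cx a) := by rw [← h1]; group
      _ = w * cx a * x := by rw [(proj_self_central x).eq]; group
  have hhu : h * u * h⁻¹ = u := by
    have e1 : h * w⁻¹ * h⁻¹ = w⁻¹ * cx a := by
      calc h * w⁻¹ * h⁻¹ = x * (x' * w⁻¹ * x'⁻¹) * x⁻¹ := by rw [hh]; group
        _ = x * w⁻¹ * x⁻¹ := by
          rw [((S.commute_image hw hxX).inv_left).symm.eq, mul_inv_cancel_right]
        _ = (x * w * x⁻¹)⁻¹ := by group
        _ = cx a * w⁻¹ := by rw [hxw, mul_inv_rev, inv_eq_of_mul_eq_one_right hcx2]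
        _ = _ := (proj_self_central w⁻¹).symm.eq
    have e2 : h * w' * h⁻¹ = w' * cx a := by
      calc h * w' * h⁻¹ = x' * (x * w' * x⁻¹) * x'⁻¹ := by
            simp only [hh, hx']; rw [(S.commute_image hxX hxX).eq]; group
        _ = x' * w' * x'⁻¹ := by rw [(S.commute_image hxX hw).eq, mul_inv_cancel_right]
        _ = S.Za * (x * w * x⁻¹) * S.Za⁻¹ := by rw [hx', hw']; group
        _ = _ := by rw [hxw, hw', mul_assoc S.Za, mul_assoc w, (proj_self_central S.Za⁻¹).symm.eq]; group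
    calc h * u * h⁻¹ = (h * w' * h⁻¹) * (h * w⁻¹ * h⁻¹) := by rw [hu]; group
      _ = w' * cx a * (w⁻¹ * cx a) := by rw [e1, e2]
      _ = w' * (cx a * w⁻¹) * cx a := by group
      _ = w' * w⁻¹ * (cx a * cx a) := by rw [← (proj_self_central w⁻¹).eq]; group
      _ = u := by rw [hcx2, mul_one]
  have hWimg : S.Za * w * S.Za⁻¹ * w⁻¹ = u := rfl
  have hHWimg : S.Za * (h * w) * S.Za⁻¹ * (h * w)⁻¹ = cx a * u := by
    calc S.Za * (h * w) * S.Za⁻¹ * (h * w)⁻¹ = (S.Za * h * S.Za⁻¹) * u * h⁻¹ := by rw [hu, hw']; group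
      _ = cx a * (h * u * h⁻¹) := by rw [eH1]; group
      _ = _ := by rw [hhu]
  have hcu1 : cx a * u ≠ 1 := fun e => hucx ((eq_inv_of_mul_eq_one_right e).trans
    (inv_eq_of_mul_eq_one_right hcx2))
  have hcu2 : cx a * u * (cx a * u) = 1 := by
    rw [(proj_self_central u).mul_mul_mul_comm, hcx2, hu2, one_mul]
  -- `b` is conjugate in `C(a)` to `H` or `a H`
  have hBu : S.Ba = u ∨ S.Ba = cx a * u := by
    by_cases hWN : (W : G) ∈ normalizer (K : Set G)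
    · left
      refine (S.eq_Ba (S.comm_mem_K hWN)
        (mul_mem (mul_mem (mul_mem S.memA W.2) (inv_mem S.memA)) (inv_mem W.2)) ?_ hu2 hu1).symm
      rw [show (⟨z * (W : G) * z⁻¹ * (W : G)⁻¹, _⟩ : ↥(𝒞 a)) = ⟨z, S.memA⟩ * W * ⟨z, S.memA⟩⁻¹ * W⁻¹ from
        Subtype.ext rfl, map_mul, map_mul, map_mul, map_inv, map_inv, eW]
    by_cases hHWN : ((H * W : ↥(𝒞 a)) : G) ∈ normalizer (K : Set G)
    · right
      refine (S.eq_Ba (S.comm_mem_K hHWN)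
        (mul_mem (mul_mem (mul_mem S.memA (H * W).2) (inv_mem S.memA)) (inv_mem (H * W).2)) ?_ hcu2 hcu1).symm
      rw [show (⟨z * ((H * W : ↥(𝒞 a)) : G) * z⁻¹ * ((H * W : ↥(𝒞 a)) : G)⁻¹, _⟩ : ↥(𝒞 a)) =
        ⟨z, S.memA⟩ * (H * W) * ⟨z, S.memA⟩⁻¹ * (H * W)⁻¹ from
        Subtype.ext rfl, map_mul, map_mul, map_mul, map_inv, map_inv, map_mul, eW, eH]
      exact hHWimg
    exfalso
    have hHWb : (H : G) * (W : G) ∈ 𝒞 b := mul_mem hHb hWb
    have hzv : ∀ {g : ↥(𝒞 a)} (hgb : (g : G) ∈ 𝒞 b),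
        proj 2 (𝒞 a) (⟨z, S.memA⟩⁻¹ * g * ⟨z, S.memA⟩ * g⁻¹) =
          S.Za⁻¹ * proj 2 (𝒞 a) g * S.Za * (proj 2 (𝒞 a) g)⁻¹ := fun {g} _ => by
      rw [map_mul, map_mul, map_mul, map_inv, map_inv]
    set v1 := ⟨z, S.memA⟩⁻¹ * H * ⟨z, S.memA⟩ * H⁻¹ with hv1
    set v2 := ⟨z, S.memA⟩⁻¹ * W * ⟨z, S.memA⟩ * W⁻¹ with hv2
    set v3 := ⟨z, S.memA⟩⁻¹ * (H * W) * ⟨z, S.memA⟩ * (H * W)⁻¹ with hv3
    have ev1 : proj 2 (𝒞 a) v1 = cx a := by
      rw [hv1, hzv hHb, eH, eH2, mul_assoc, mul_inv_cancel, mul_one]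
    have hconjW : S.Za⁻¹ * w * S.Za = w' := by
      rw [S.Za_inv, hw']
      calc S.Za * S.Ba * w * S.Za = S.Za * (S.Ba * w * S.Ba⁻¹) * (S.Ba * S.Za) := by group
        _ = S.Za * w * (S.Za * S.Ba) := by rw [hBw, S.Za_commute_Ba.eq]
        _ = _ := by rw [← S.Za_inv]
    have ev2 : proj 2 (𝒞 a) v2 = u := by rw [hv2, hzv hWb, eW, hconjW]
    have ev3 : proj 2 (𝒞 a) v3 = cx a * u := by
      rw [hv3, hzv hHWb, map_mul, eH, eW]
      calc S.Za⁻¹ * (h * w) * S.Za * (h * w)⁻¹ = (S.Za⁻¹ * h * S.Za) * (S.Za⁻¹ * w * S.Za) * w⁻¹ * h⁻¹ := by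
            group
        _ = cx a * (h * u * h⁻¹) := by rw [eH2, hconjW, hu]; group
        _ = _ := by rw [hhu]
    set o := v3⁻¹ * v1 * v2 with ho
    have hoodd : Odd (orderOf (o : G)) := odd_of_proj (by
      rw [ho, map_mul, map_mul, map_inv, ev1, ev2, ev3, mul_assoc, inv_mul_cancel])
    have hob : (o : G) ∈ 𝒞 b := by
      have hm : ∀ g ∈ 𝒞 b, z⁻¹ * g * z * g⁻¹ ∈ 𝒞 b := fun g hg =>
        mul_mem (mul_mem (mul_mem (inv_mem S.memB) hg) S.memB) (inv_mem hg)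
      exact mul_mem (mul_mem (inv_mem (hm _ hHWb)) (hm _ hHb)) (hm _ hWb)
    set Hb := proj 2 (𝒞 b) ⟨(H : G), hHb⟩ with hHbdef
    set Wb := proj 2 (𝒞 b) ⟨(W : G), hWb⟩ with hWbdef
    have eHW : proj 2 (𝒞 b) ⟨(H : G) * (W : G), hHWb⟩ = Hb * Wb := by
      rw [hHbdef, hWbdef, ← map_mul]; rfl
    set L := S.T hHb with hL
    have hLdef : L = Hb * S.Zb * Hb⁻¹ := rfl
    have eob : proj 2 (𝒞 b) ⟨(o : G), hob⟩ = (S.T hHWb)⁻¹ * L * (S.Zb⁻¹ * S.T hWb) := by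
      rw [show (⟨(o : G), hob⟩ : ↥(𝒞 b)) =
          (⟨z, S.memB⟩⁻¹ * ⟨(H : G) * (W : G), hHWb⟩ * ⟨z, S.memB⟩ * (⟨(H : G) * (W : G), hHWb⟩ : ↥(𝒞 b))⁻¹)⁻¹ *
            (⟨z, S.memB⟩⁻¹ * ⟨(H : G), hHb⟩ * ⟨z, S.memB⟩ * (⟨(H : G), hHb⟩ : ↥(𝒞 b))⁻¹) *
            (⟨z, S.memB⟩⁻¹ * ⟨(W : G), hWb⟩ * ⟨z, S.memB⟩ * (⟨(W : G), hWb⟩ : ↥(𝒞 b))⁻¹) from Subtype.ext rfl]
      simp only [map_mul, map_inv, hLdef, Moving.T, ← hHbdef, ← hWbdef]
      group
    set XH := (bar 2 (𝒞 b) K).map (MulAut.conj Hb).toMonoidHom with hXH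
    have hXHc : Cfsg.IsComponent XH := isComponent_map_equiv _ S.hK.isComponent
    have hcent : ∀ {g : G} (hg : g ∈ 𝒞 b), (H : G)⁻¹ * g ∉ normalizer (K : Set G) →
        ∀ t ∈ XH, Commute (S.T hg) t := fun {g} hg hN t ht => by
      refine commutator_eq_bot_iff_forall.1 (components_commute
        (isComponent_map_equiv _ S.hK.isComponent) hXHc ?_) _ (S.T_mem hg) t ht
      intro e
      refine S.conj_image_ne (mul_mem (inv_mem hHb) hg) hN ?_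
      have e' := congrArg (Subgroup.map (MulAut.conj Hb⁻¹).toMonoidHom) e
      rw [Subgroup.map_map, hXH, Subgroup.map_map] at e'
      convert e' using 1
      · congr 1
        ext q
        show proj 2 (𝒞 b) (⟨(H : G), hHb⟩⁻¹ * ⟨g, hg⟩) * q * (proj 2 (𝒞 b) (⟨(H : G), hHb⟩⁻¹ * ⟨g, hg⟩))⁻¹ =
          Hb⁻¹ * (proj 2 (𝒞 b) ⟨g, hg⟩ * q * (proj 2 (𝒞 b) ⟨g, hg⟩)⁻¹) * Hb⁻¹⁻¹
        rw [map_mul, map_inv, ← hHbdef]
        group
      · conv_lhs => rw [← Subgroup.map_id (bar 2 (𝒞 b) K)]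
        congr 1
        ext q
        show q = Hb⁻¹ * (Hb * q * Hb⁻¹) * Hb⁻¹⁻¹
        group
    have hHi : (H : G)⁻¹ = H := invol_inv hHo
    have cHW := hcent hHWb (by rw [inv_mul_cancel_left]; exact hWN)
    have cW := hcent hWb (by rw [hHi]; exact hHWN)
    have cZ : ∀ t ∈ XH, Commute S.Zb t := fun t ht =>
      commutator_eq_bot_iff_forall.1 (components_commute S.hK.isComponent hXHc
        (S.conj_image_ne hHb hHN).symm) _ S.Zb_mem t ht
    have hLX : L ∈ XH := S.T_mem hHb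
    set q := proj 2 (𝒞 b) ⟨(o : G), hob⟩ with hq
    have hact1 : ∀ t ∈ XH, q * t * q⁻¹ = L * t * L⁻¹ := fun t ht => by
      have hLt : L * t * L⁻¹ ∈ XH := mul_mem (mul_mem hLX ht) (inv_mem hLX)
      calc q * t * q⁻¹
          = (S.T hHWb)⁻¹ * (L * (S.Zb⁻¹ * (S.T hWb * t * (S.T hWb)⁻¹) * S.Zb) * L⁻¹) * S.T hHWb := by
            rw [eob]; group
        _ = (S.T hHWb)⁻¹ * (L * t * L⁻¹) * S.T hHWb := by
            rw [(cW t ht).eq, mul_inv_cancel_right, mul_assoc S.Zb⁻¹, ← (cZ t ht).eq, inv_mul_cancel_left]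
        _ = L * t * L⁻¹ := by rw [mul_assoc, ← (cHW _ hLt).eq, inv_mul_cancel_left]
    have hactn : ∀ n : ℕ, ∀ t ∈ XH, q ^ n * t * (q ^ n)⁻¹ = L ^ n * t * (L ^ n)⁻¹ := by
      intro n
      induction n with
      | zero => intro t _; simp
      | succ n ih =>
        intro t ht
        calc q ^ (n + 1) * t * (q ^ (n + 1))⁻¹ = q ^ n * (q * t * q⁻¹) * (q ^ n)⁻¹ := by
              rw [pow_succ]; group
          _ = L ^ n * (L * t * L⁻¹) * (L ^ n)⁻¹ := by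
              rw [hact1 t ht, ih _ (mul_mem (mul_mem hLX ht) (inv_mem hLX))]
          _ = _ := by rw [pow_succ]; group
    obtain ⟨m, hm⟩ := hoodd
    have hqn : q ^ (orderOf (o : G)) = 1 := by
      rw [hq, ← map_pow, show (⟨(o : G), hob⟩ : ↥(𝒞 b)) ^ orderOf (o : G) = 1 from
        Subtype.ext (by rw [coe_pow]; exact pow_orderOf_eq_one _), map_one]
    rw [hm] at hqn
    have hZn : S.Zb ^ (2 * m + 1) = cx b ^ m * S.Zb := by rw [pow_succ, pow_mul, pow_two, S.Zb_sq]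
    have hcen : ∀ t ∈ bar 2 (𝒞 b) K, Commute S.Zb t := fun t ht => by
      have h1 := hactn (2 * m + 1) _ (mem_map_of_mem (MulAut.conj Hb).toMonoidHom ht)
      simp only [MulEquiv.coe_toMonoidHom, MulAut.conj_apply] at h1
      rw [hqn, one_mul, inv_one, mul_one, hLdef, conj_pow, hZn] at h1
      have h2 : t = cx b ^ m * S.Zb * t * (cx b ^ m * S.Zb)⁻¹ :=
        calc t = Hb⁻¹ * (Hb * t * Hb⁻¹) * Hb := by group
          _ = _ := by rw [h1]; group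
      have hcm : Commute (cx b ^ m) t := ((proj_self_central t).symm).pow_left m
      refine mul_inv_eq_iff_eq_mul.1 ?_
      have hcm' : Commute (cx b ^ m) (S.Zb * t * S.Zb⁻¹) := ((proj_self_central _).symm).pow_left m
      refine Eq.trans ?_ h2.symm
      calc S.Zb * t * S.Zb⁻¹ = cx b ^ m * (S.Zb * t * S.Zb⁻¹) * (cx b ^ m)⁻¹ := by
            rw [hcm'.eq, mul_inv_cancel_right]
        _ = _ := by group
    have hcb : cx b ≠ 1 := proj_self_ne_one S.hK.ord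
    rcases S.hK.central_eq S.Zb_mem hcen with e | e <;> have h2 := S.Zb_sq <;> rw [e] at h2
    · exact hcb (by rw [← h2, one_mul])
    · exact hcb (by rw [← h2, proj_self_sq S.hK.ord])
  -- `Γ` sends `u` to `h cx`
  set Γ := γ * (S.Za * γ * S.Za⁻¹) with hΓ
  have hΓu : Γ * u * Γ⁻¹ = cx a * h := by
    have c1 : Commute γ (S.Za * γ * S.Za⁻¹) := S.commute_image hγ hγ
    calc Γ * u * Γ⁻¹ = (Γ * w' * Γ⁻¹) * (Γ * w⁻¹ * Γ⁻¹) := by rw [hu]; group
      _ = x' * x⁻¹ := by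
        congr 1
        · calc Γ * w' * Γ⁻¹ = γ * ((S.Za * γ * S.Za⁻¹) * w' * (S.Za * γ * S.Za⁻¹)⁻¹) * γ⁻¹ := by
                rw [hΓ]; group
            _ = γ * x' * γ⁻¹ := by rw [hx', hw', hx]; group
            _ = x' := by rw [(S.commute_image hγ hxX).eq, mul_inv_cancel_right]
        · calc Γ * w⁻¹ * Γ⁻¹ = γ * ((S.Za * γ * S.Za⁻¹) * w⁻¹ * (S.Za * γ * S.Za⁻¹)⁻¹) * γ⁻¹ := by
                rw [hΓ]; group
            _ = γ * w⁻¹ * γ⁻¹ := by rw [((S.commute_image hw hγ).inv_left).symm.eq, mul_inv_cancel_right]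
            _ = x⁻¹ := by rw [hx]; group
      _ = x' * x * cx a := by rw [inv4 x hx2, ← mul_assoc]
      _ = _ := by rw [← (S.commute_image hxX hxX).eq, ← hh, (proj_self_central h).eq]
  have hΓcu : Γ * (cx a * u) * Γ⁻¹ = h := by
    calc Γ * (cx a * u) * Γ⁻¹ = (Γ * cx a * Γ⁻¹) * (Γ * u * Γ⁻¹) := by group
      _ = h := by rw [(proj_self_central Γ).eq, mul_inv_cancel_right, hΓu, ← mul_assoc, hcx2, one_mul]
  have hHa : Commute a (H : G) := (commute_of_mem H.2).symm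
  have haHne : a ≠ (H : G) := fun e => hhcx (by rw [← eH]; exact congrArg _ (Subtype.ext e.symm))
  obtain ⟨H', hH'o, hH'b, eH', hH'N, hH'T⟩ : ∃ H' : ↥(𝒞 a), orderOf (H' : G) = 2 ∧
      ∃ hb : (H' : G) ∈ 𝒞 b, Γ * S.Ba * Γ⁻¹ = proj 2 (𝒞 a) H' ∧ (H' : G) ∉ normalizer (K : Set G) ∧
        S.T hb = S.T hHb := by
    rcases hBu with e | e
    · refine ⟨self' a * H, invol_commute_mul S.hJ.ord hHo hHa haHne,
        mul_mem S.aB hHb, ?_, fun hN => hHN ?_, ?_⟩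
      · rw [map_mul, eH, e, hΓu]
      · have := mul_mem (inv_mem S.haK) hN
        rwa [show ((self' a * H : ↥(𝒞 a)) : G) = a * H from rfl, inv_mul_cancel_left] at this
      · show proj 2 (𝒞 b) (⟨a, S.aB⟩ * ⟨(H : G), hHb⟩) * S.Zb *
          (proj 2 (𝒞 b) (⟨a, S.aB⟩ * ⟨(H : G), hHb⟩))⁻¹ = _
        have c1 : Commute (⟨a, S.aB⟩ : ↥(𝒞 b)) ⟨(H : G), hHb⟩ := Subtype.ext hHa.eq
        have c2 : Commute (⟨a, S.aB⟩ : ↥(𝒞 b)) ⟨z, S.memB⟩ := Subtype.ext S.comm.symm.eq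
        rw [c1.eq, map_mul, mul_assoc (proj 2 (𝒞 b) ⟨(H : G), hHb⟩), (c2.map (proj 2 (𝒞 b))).eq]
        show _ = proj 2 (𝒞 b) ⟨(H : G), hHb⟩ * S.Zb * (proj 2 (𝒞 b) ⟨(H : G), hHb⟩)⁻¹
        group
    · exact ⟨H, hHo, hHb, by rw [eH, e, hΓcu], hHN, rfl⟩
  obtain ⟨G0, hG0⟩ := QuotientGroup.mk'_surjective _ Γ
  obtain ⟨o, -, -, eo⟩ := exists_conj_core (u := G0 * ⟨b, S.bA⟩ * G0⁻¹) (v := H')
    (invol_conj S.hK.ord (G0 : G)) hH'o (by rw [map_mul, map_mul, map_inv, ← eH', show proj 2 (𝒞 a) G0 = Γ from hG0])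
  set g := (o : G) * (G0 : G) with hg
  have hga : g ∈ 𝒞 a := mul_mem o.2 G0.2
  have hgb : g * b * g⁻¹ = H' := by
    rw [← eo]; show g * b * g⁻¹ = (o : G) * ((G0 : G) * b * (G0 : G)⁻¹) * (o : G)⁻¹
    rw [hg]; group
  have hK' := S.hK.conj g
  rw [hgb] at hK'
  have haL' : a ∈ Cfsg.pLayerOf 2 (𝒞 (H' : G)) := by
    have h := mem_map_of_mem (MulAut.conj g).toMonoidHom haL
    rw [pLayerOf_map, map_centralizer_singleton] at h
    simp only [MulEquiv.coe_toMonoidHom, MulAut.conj_apply, hgb] at h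
    rwa [(commute_of_mem hga).eq, mul_inv_cancel_right] at h
  obtain ⟨D, hD, hDmem⟩ := exists_diag S.hK hH'o hH'b hH'N
  have habD : a * b ∈ D := by
    refine hDmem (a * b) (mul_mem S.aB (mem_of_commute (Commute.refl b)))
      (mul_mem (mem_of_commute (commute_of_mem H'.2).symm) (mem_of_commute (commute_of_mem hH'b).symm))
      (twoEl_of_sq (invol_mul_self (invol_commute_mul S.hJ.ord S.hK.ord S.hab S.hne)))
      ⟨S.Zb, S.Zb_mem, ?_⟩
    show proj 2 (𝒞 b) (⟨a, S.aB⟩ * self' b) = S.Zb * S.T hH'b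
    rw [map_mul, hH'T, eab, mul_inv_rev, inv_inv]
    have hc := S.Zb_commute_T hHb hHN
    have hT : (S.T hHb)⁻¹ * cx b = S.T hHb := by
      have hTT : S.T hHb * S.T hHb = cx b := by
        calc S.T hHb * S.T hHb = proj 2 (𝒞 b) ⟨(H : G), hHb⟩ * (S.Zb * S.Zb) *
              (proj 2 (𝒞 b) ⟨(H : G), hHb⟩)⁻¹ := by simp only [Moving.T]; group
          _ = cx b := by
            rw [S.Zb_sq, (proj_self_central (proj 2 (𝒞 b) ⟨(H : G), hHb⟩)).eq, mul_inv_cancel_right]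
      rw [← hTT, inv_mul_cancel_left]
    calc (S.T hHb)⁻¹ * S.Zb * cx b = S.Zb * (S.T hHb)⁻¹ * cx b := by rw [hc.inv_right.eq]
      _ = _ := by rw [mul_assoc, hT]
  have hbL : b ∈ Cfsg.pLayerOf 2 (𝒞 (H' : G)) := by
    have := mul_mem haL' (le_pLayerOf S.hK.ord (mem_of_commute (commute_of_mem hH'b).symm) hD habD)
    rwa [← mul_assoc, invol_mul_self S.hJ.ord, one_mul] at this
  exact hH'N (swap S.hK hK' (mem_normalizer_of_pLayerOf hK'.comp hbL))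

end Moving

/-- A two-element of `K` of order at least four that commutes with `a` normalizes `J`. -/
theorem normalizes (hJ : Intr a J) (hK : Intr b K) {y : G} (hy : y ∈ K)
    (h2 : IsPGroup 2 ↥(zpowers y)) (h4 : 4 ≤ orderOf y) (hc : y * a = a * y) :
    y ∈ normalizer (J : Set G) := by
  classical
  by_contra hmv
  obtain ⟨k, hk⟩ := h2 ⟨y, mem_zpowers y⟩
  replace hk : y ^ 2 ^ k = 1 := congrArg Subtype.val hk
  have hyL : y ∈ Cfsg.pLayerOf 2 (𝒞 b) :=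
    ⟨⟨y, hK.le hy⟩, pComponent_le_pLayer hK.comp.2 (mem_subgroupOf.2 hy), rfl⟩
  have hne : a ≠ b := fun e => hmv (by
    subst e
    exact mem_normalizer_of_pLayerOf hJ.comp hyL)
  have hyb : y ∈ 𝒞 b := hK.le hy
  obtain ⟨s, -, hs⟩ := (Nat.dvd_prime_pow Nat.prime_two).1 (orderOf_dvd_of_pow_eq_one hk)
  have hs0 : s ≠ 0 := fun e => by rw [hs, e] at h4; norm_num at h4
  have hev : Even (orderOf y) := by rw [hs]; exact (Nat.even_pow).2 ⟨even_two, hs0⟩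
  have hyb' : y ^ (orderOf y / 2) = b := hK.uniq _ (pow_mem hy _) (orderOf_pow_half hev)
  have hab : Commute a b := by
    rw [← hyb']; exact (show Commute y a from hc).symm.pow_right _
  have haB : a ∈ 𝒞 b := mem_of_commute hab
  have haK : a ∈ normalizer (K : Set G) := by
    rw [← hK.proj_normalizer_iff (g := ⟨a, haB⟩)]
    set α := proj 2 (𝒞 b) ⟨a, haB⟩ with hα
    set Y := proj 2 (𝒞 b) ⟨y, hyb⟩ with hY
    set X := bar 2 (𝒞 b) K with hX
    by_contra hn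
    have hXne : X.map (MulAut.conj α).toMonoidHom ≠ X := fun e => hn (mem_normalizer_iff.2 fun n => by
      conv_rhs => rw [← e, mem_map_equiv, MulAut.conj_symm_apply]
      rw [show α⁻¹ * (α * n * α⁻¹) * α = n by group])
    have hYX : Y ∈ X := proj_mem_bar (g := ⟨y, hyb⟩) hy
    have hYc : Commute α Y :=
      (show Commute (⟨a, haB⟩ : ↥(𝒞 b)) ⟨y, hyb⟩ from Subtype.ext hc.symm).map _
    have hYX' : Y ∈ X.map (MulAut.conj α).toMonoidHom := ⟨Y, hYX, by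
      show α * Y * α⁻¹ = Y
      rw [hYc.eq, mul_inv_cancel_right]⟩
    have hyt : TwoEl Y := ⟨k, by
      rw [hY, ← map_pow, show (⟨y, hyb⟩ : ↥(𝒞 b)) ^ 2 ^ k = 1 from Subtype.ext hk, map_one]⟩
    have hty : TwoEl y := ⟨k, hk⟩
    rcases hK.eq_central_of_mem (isComponent_map_equiv _ hK.isComponent) hXne hYX hYX' with e | e
    · have h1 := hty.eq_one (odd_of_proj e)
      rw [h1, orderOf_one] at h4; omega
    · have h1 : proj 2 (𝒞 b) (⟨y, hyb⟩ * self' b) = 1 := by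
        rw [map_mul, ← hY, e]; exact proj_self_sq hK.ord
      have h3 := (hty.mul (twoEl_of_sq (invol_mul_self hK.ord))
        (commute_of_mem hyb)).eq_one (odd_of_proj h1)
      rw [eq_inv_of_mul_eq_one_left h3, invol_inv hK.ord, hK.ord] at h4; omega
  have hex : ∃ i, y ^ 2 ^ i ∈ normalizer (J : Set G) := ⟨k, by rw [hk]; exact one_mem _⟩
  have h0 : Nat.find hex ≠ 0 := fun e => hmv (by
    have := Nat.find_spec hex
    rwa [e, pow_zero, pow_one] at this)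
  obtain ⟨i, hi⟩ := Nat.exists_eq_succ_of_ne_zero h0
  have hsq := Nat.find_spec hex
  rw [hi, pow_succ, pow_mul, pow_two] at hsq
  exact Moving.absurd' (z := y ^ 2 ^ i)
    { hJ := hJ, hK := hK, mem := pow_mem hy _, comm := (show Commute y a from hc).pow_left _
      two := ⟨k, by rw [← pow_mul, mul_comm, pow_mul, hk, one_pow]⟩
      moved := Nat.find_min hex (by omega)
      sq := hsq, hab := hab, hne := hne, haK := haK, hbJ := swap hJ hK haK }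

end CfsgLib.Invol.IntrinsicSL
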