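import Cfsg.Agent.Lib.Invol.IntrinsicSL.Balance
import Cfsg.Agent.Lib.Invol.ZStar
import Cfsg.Agent.Lib.Coprime.Action

/-!
# Elements moved by the central involution, conjugates that anticommute

Both follow from the Z*-theorem.
-/

set_option autoImplicit false
set_option linter.style.haveILetI false
set_option linter.unusedSectionVars false

namespace CfsgLib.Invol.IntrinsicSL

open Subgroup CfsgLib.Coprime CfsgLib.Invol.PTerminal
open scoped commutatorElement

theorem exists_normal_of_odd {M : Type*} [Group M] [Finite M] {u : M} (hu : orderOf u = 2)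
    (h : ∀ g : M, Odd (orderOf (u * (g * u * g⁻¹)))) :
    ∃ N : Subgroup M, N.Normal ∧ ¬ 2 ∣ Nat.card N ∧ ∀ g : M, u * g * u⁻¹ * g⁻¹ ∈ N := by
  haveI : Fact (Nat.Prime 2) := ⟨Nat.prime_two⟩
  obtain ⟨P, hP⟩ := (isPGroup_zpowers (p := 2) (k := 1) (by rw [pow_one, ← hu, pow_orderOf_eq_one]) :
    IsPGroup 2 (zpowers u)).exists_le_sylow
  have huP : u ∈ P := hP (mem_zpowers u)
  refine ⟨Cfsg.pPrimeCore 2 M, inferInstance, pPrimeCore_not_dvd Nat.prime_two, ?_⟩
  refine CfsgLib.Invol.zstar_of_weakly_closed P hu fun g hg => ?_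
  obtain ⟨s, hs⟩ := CfsgLib.Invol.orderOf_pow_two_of_mem (P := P) (mul_mem huP hg)
  have h1 := CfsgLib.Invol.eq_one_of_odd_of_pow_two (h g) (hs ▸ pow_orderOf_eq_one _)
  rw [← inv_eq_of_mul_eq_one_right h1, invol_inv hu]

variable {G : Type*} [Group G] [Finite G] [Fact (Nat.Prime 2)]

local notation "𝒞" x:max => Subgroup.centralizer ({x} : Set _)

/-- An involution acting nontrivially sends some `k` to `k c`. -/
theorem Intr.exists_moved {y : G} {K : Subgroup G} (h : Intr y K) {a : Qc y} (ha : a * a = 1)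
    (hn : a ∈ normalizer (bar 2 (𝒞 y) K : Set (Qc y)))
    (hc : a ∉ centralizer (bar 2 (𝒞 y) K : Set (Qc y))) :
    ∃ k ∈ bar 2 (𝒞 y) K, a * k * a⁻¹ = k * cx y := by
  classical
  set X := bar 2 (𝒞 y) K with hX
  have hai : a⁻¹ = a := inv_eq_of_mul_eq_one_right ha
  set d : Qc y → Qc y := fun k => k⁻¹ * (a * k * a⁻¹) with hd
  have hdX : ∀ k ∈ X, d k ∈ X := fun k hk => mul_mem (inv_mem hk) ((mem_normalizer_iff.1 hn k).1 hk)
  have hdinv : ∀ k, a * d k * a⁻¹ = (d k)⁻¹ := by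
    intro k
    simp only [hd, mul_inv_rev, inv_inv]
    calc a * (k⁻¹ * (a * k * a⁻¹)) * a⁻¹ = a * k⁻¹ * a * k * (a * a)⁻¹ := by group
      _ = a * k⁻¹ * a⁻¹ * k := by rw [ha, hai, inv_one, mul_one]
      _ = a * (k⁻¹ * a⁻¹) * k := by group
  by_cases hev : ∃ k ∈ X, Even (orderOf (d k))
  · obtain ⟨k, hk, hev⟩ := hev
    set n := orderOf (d k) with hn'
    have hpow : d k ^ (n / 2) = cx y := h.invol_eq (pow_mem (hdX k hk) _)
      (invol_mul_self (orderOf_pow_half hev)) (invol_ne_one (orderOf_pow_half hev))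
    have hconj : ∀ i : ℤ, a * d k ^ i * a⁻¹ = (d k ^ i)⁻¹ := fun i => by
      rw [← conj_zpow, hdinv, inv_zpow]
    rcases Nat.even_or_odd (n / 2) with ⟨j, hj⟩ | ⟨j, hj⟩
    · refine ⟨d k ^ j, pow_mem (hdX k hk) _, ?_⟩
      have h2 : d k ^ j * d k ^ j = cx y := by rw [← pow_add, ← hj, hpow]
      have h1 := hconj (j : ℤ)
      rw [zpow_natCast] at h1
      rw [h1]
      refine (eq_inv_of_mul_eq_one_right ?_).symm
      rw [← mul_assoc, h2, proj_self_sq h.ord]
    · refine ⟨k * d k ^ (-(j : ℤ)), mul_mem hk (zpow_mem (hdX k hk) _), ?_⟩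
      have e : a * k * a⁻¹ = k * d k := by simp only [hd]; group
      calc a * (k * d k ^ (-(j : ℤ))) * a⁻¹ = (a * k * a⁻¹) * (a * d k ^ (-(j : ℤ)) * a⁻¹) := by group
        _ = k * d k * d k ^ (j : ℤ) := by rw [e, hconj, zpow_neg, inv_inv]
        _ = k * d k ^ (-(j : ℤ)) * d k ^ (n / 2) := by
          rw [hj]
          generalize d k = D
          group
        _ = _ := by rw [hpow]
  exfalso
  push Not at hev
  refine hc (mem_centralizer_iff.2 fun q hq => ?_)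
  have hne : a ≠ 1 := fun e => hc (e ▸ one_mem _)
  set H := X ⊔ zpowers a with hH
  have haH : a ∈ H := mem_sup_right (mem_zpowers a)
  have hXH : X ≤ H := le_sup_left
  have hao : orderOf (⟨a, haH⟩ : H) = 2 :=
    invol_iff.2 ⟨Subtype.ext ha, fun e => hne (congrArg Subtype.val e)⟩
  obtain ⟨N, hN, hNodd, hNc⟩ := exists_normal_of_odd hao (by
    rintro ⟨g, hg⟩
    obtain ⟨k, hk, b, hb, rfl⟩ := mem_sup_exists (N := X) (zpowers_le.2 hn) hg
    have e : (((⟨a, haH⟩ : H) * (⟨k * b, hg⟩ * ⟨a, haH⟩ * (⟨k * b, hg⟩ : H)⁻¹) : H) : Qc y) = (d (k⁻¹))⁻¹ := by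
      obtain ⟨i, rfl⟩ := mem_zpowers_iff.1 hb
      show a * (k * a ^ i * a * (k * a ^ i)⁻¹) = (d (k⁻¹))⁻¹
      simp only [hd, inv_inv, mul_inv_rev]
      calc a * (k * a ^ i * a * ((a ^ i)⁻¹ * k⁻¹)) = a * k * (a ^ i * a * (a ^ i)⁻¹) * k⁻¹ := by group
        _ = a * k * a * k⁻¹ := by rw [(Commute.zpow_self a i).eq]; group
        _ = a * (k * a⁻¹) * k⁻¹ := by rw [hai]; group
    rw [← orderOf_coe, e, orderOf_inv, ← Nat.not_even_iff_odd]
    exact hev _ (inv_mem hk))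
  haveI := hN
  set M := (N.map H.subtype).subgroupOf X with hM
  haveI hMn : M.Normal := ⟨fun m hm g => by
    obtain ⟨m', hm', e⟩ := hm
    refine ⟨⟨g, hXH g.2⟩ * m' * ⟨g, hXH g.2⟩⁻¹, hN.conj_mem m' hm' _, ?_⟩
    show (g : Qc y) * (m' : Qc y) * (g : Qc y)⁻¹ = (g : Qc y) * (m : Qc y) * (g : Qc y)⁻¹
    rw [show (m' : Qc y) = m from e]⟩
  have hMdvd : ¬ 2 ∣ Nat.card M := fun hd => hNodd (hd.trans
    ((Subgroup.card_comap_dvd_of_injective _ X.subtype X.subtype_injective).trans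
      (card_map_of_injective H.subtype_injective).dvd))
  have hMbot : M = ⊥ := eq_bot_of_normal_pPrime (pPrimeCore_quotient_eq_bot Nat.prime_two) h.isComponent hMdvd
  have hmem : (⟨q⁻¹ * (a * q * a⁻¹), hdX q hq⟩ : X) ∈ M := by
    refine ⟨(⟨q, hXH hq⟩ : H)⁻¹ * (⟨a, haH⟩ * ⟨q, hXH hq⟩ * (⟨a, haH⟩ : H)⁻¹ * (⟨q, hXH hq⟩ : H)⁻¹) *
      ⟨q, hXH hq⟩, by simpa using hN.conj_mem _ (hNc ⟨q, hXH hq⟩) (⟨q, hXH hq⟩ : H)⁻¹, ?_⟩
    show q⁻¹ * (a * q * a⁻¹ * q⁻¹) * q = q⁻¹ * (a * q * a⁻¹)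
    group
  rw [hMbot, mem_bot] at hmem
  have e : q⁻¹ * (a * q * a⁻¹) = 1 := congrArg Subtype.val hmem
  rw [inv_mul_eq_one] at e
  calc q * a = a * q * a⁻¹ * a := by rw [← e]
    _ = a * q := by group

/-- An element of order four is inverted by conjugation under one of its conjugates. -/
theorem Intr.exists_anticommute {x : G} {J : Subgroup G} (h : Intr x J) {w : Qc x}
    (hw : w ∈ bar 2 (𝒞 x) J) (hw2 : w * w = cx x) :
    ∃ γ ∈ bar 2 (𝒞 x) J, w * (γ * w * γ⁻¹) * w⁻¹ = γ * w * γ⁻¹ * cx x := by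
  classical
  set X := bar 2 (𝒞 x) J with hX
  let Z := center ↥X
  let μ := QuotientGroup.mk' Z
  haveI := h.isComponent.2.2
  have hcz : ∀ q : ↥X, q ∈ Z → (q : Qc x) = 1 ∨ (q : Qc x) = cx x := fun q hq =>
    h.central_eq q.2 fun r hr => (congrArg Subtype.val (mem_center_iff.1 hq ⟨r, hr⟩)).symm
  have hxne : cx x ≠ 1 := proj_self_ne_one h.ord
  have hzc : (⟨cx x, h.self_mem⟩ : ↥X) ∈ Z :=
    mem_center_iff.2 fun g => Subtype.ext (proj_self_central (g : Qc x)).eq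
  set w' : ↥X := ⟨w, hw⟩
  have hwne : w' ∉ Z := fun e => by
    have hx2 : cx x * cx x = 1 := proj_self_sq h.ord
    rcases hcz w' e with e' | e' <;> rw [show w = _ from e'] at hw2
    · exact hxne (by rw [← hw2, one_mul])
    · exact hxne (by rw [← hw2, hx2])
  set u := μ w' with hudef
  have hu : orderOf u = 2 := invol_iff.2 ⟨by
      rw [hudef, ← map_mul, show w' * w' = ⟨cx x, h.self_mem⟩ from Subtype.ext hw2]
      exact (QuotientGroup.eq_one_iff _).2 hzc, fun e => hwne ((QuotientGroup.eq_one_iff _).1 e)⟩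
  -- a conjugate commuting with `u`
  obtain ⟨g, hgc, hgne⟩ : ∃ g : ↥X ⧸ Z, Commute (g * u * g⁻¹) u ∧ g * u * g⁻¹ ≠ u := by
    by_cases hall : ∀ g : ↥X ⧸ Z, Odd (orderOf (u * (g * u * g⁻¹)))
    · exfalso
      obtain ⟨N, hN, hNodd, hNc⟩ := exists_normal_of_odd hu hall
      haveI : IsSimpleGroup (↥X ⧸ Z) := h.isComponent.2.2
      rcases hN.eq_bot_or_eq_top with e | e
      · refine invol_ne_one hu ?_
        rw [← mem_bot, ← center_quotient_eq_bot h.isComponent.2, mem_center_iff]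
        intro g
        have h1 := hNc g
        rw [e, mem_bot] at h1
        calc g * u = u * g * u⁻¹ * g⁻¹ * (g * u) := by rw [h1, one_mul]
          _ = u * g := by group
      · refine hNodd ?_
        rw [e, card_top]
        have := _root_.orderOf_dvd_natCard u
        rwa [hu] at this
    push Not at hall
    obtain ⟨g, hg⟩ := hall
    rw [Nat.not_odd_iff_even] at hg
    set v := g * u * g⁻¹ with hv
    have hvo : orderOf v = 2 := invol_conj hu g
    set r := u * v with hr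
    have htc : Commute (r ^ (orderOf r / 2)) u := commute_pow_half (invol_conj_mul hu hvo) hg
    have hto := orderOf_pow_half hg
    have hcm : Commute (u * r ^ (orderOf r / 2)) u := (Commute.refl u).mul_left htc
    have hne : u * r ^ (orderOf r / 2) ≠ u := fun e => invol_ne_one hto (mul_eq_left.1 e)
    rcases Nat.even_or_odd (orderOf r / 2) with ⟨j, hj⟩ | ⟨j, hj⟩
    · refine ⟨(r ^ (-(j : ℤ))), ?_, ?_⟩ <;>
        rw [hr, zpow_conj_invol hu hvo, ← hr, show (-(2 * -(j : ℤ))) = ((orderOf r / 2 : ℕ) : ℤ) by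
          rw [hj]; push_cast; ring, zpow_natCast]
      · exact hcm
      · exact hne
    · have e : r ^ (-(j : ℤ)) * g * u * (r ^ (-(j : ℤ)) * g)⁻¹ = u * r ^ (orderOf r / 2) := by
        have key : ∀ s, s * g * u * (s * g)⁻¹ = s * v * s⁻¹ := fun s => by rw [hv]; group
        have hv' : u * r = v := by rw [hr, ← mul_assoc, invol_mul_self hu, one_mul]
        calc r ^ (-(j : ℤ)) * g * u * (r ^ (-(j : ℤ)) * g)⁻¹
            = r ^ (-(j : ℤ)) * (u * r) * (r ^ (-(j : ℤ)))⁻¹ := by rw [key, hv']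
          _ = (r ^ (-(j : ℤ)) * u * (r ^ (-(j : ℤ)))⁻¹) * r := by group
          _ = _ := by
            rw [hr, zpow_conj_invol hu hvo, ← hr, mul_assoc, ← zpow_add_one,
              show (-(2 * -(j : ℤ)) + 1) = ((orderOf r / 2 : ℕ) : ℤ) by rw [hj]; push_cast; ring, zpow_natCast]
      exact ⟨_, e.symm ▸ hcm, e.symm ▸ hne⟩
  obtain ⟨γ, rfl⟩ := QuotientGroup.mk'_surjective Z g
  refine ⟨γ, γ.2, ?_⟩
  set t : ↥X := γ * w' * γ⁻¹ with ht
  have htμ : μ t = μ γ * u * (μ γ)⁻¹ := by rw [ht, map_mul, map_mul, map_inv]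
  change Commute (μ γ * u * (μ γ)⁻¹) u at hgc
  have hcm' : w' * t * w'⁻¹ * t⁻¹ ∈ Z := by
    rw [← QuotientGroup.eq_one_iff]
    show μ _ = 1
    rw [map_mul, map_mul, map_mul, map_inv, map_inv, htμ, ← hudef, hgc.symm.eq]
    group
  have ht2 : (t : Qc x) * t = cx x := by
    show (γ : Qc x) * w * (γ : Qc x)⁻¹ * ((γ : Qc x) * w * (γ : Qc x)⁻¹) = cx x
    calc _ = (γ : Qc x) * (w * w) * (γ : Qc x)⁻¹ := by group
      _ = _ := by rw [hw2, (proj_self_central (γ : Qc x)).eq, mul_inv_cancel_right]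
  rcases hcz _ hcm' with e | e
  · exfalso
    apply hgne
    have e1 : w * (t : Qc x) * w⁻¹ * (t : Qc x)⁻¹ = 1 := e
    have hcomm : Commute w (t : Qc x) := by
      rw [mul_inv_eq_one, mul_inv_eq_iff_eq_mul] at e1
      exact e1
    have h2 : (w * (t : Qc x)) * (w * (t : Qc x)) = 1 := by
      calc (w * (t : Qc x)) * (w * (t : Qc x)) = w * ((t : Qc x) * w) * t := by group
        _ = (w * w) * ((t : Qc x) * t) := by rw [← hcomm.eq]; group
        _ = 1 := by rw [hw2, ht2]; exact proj_self_sq h.ord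
    have h3 : w' * t ∈ Z := by
      by_cases h1 : w * (t : Qc x) = 1
      · rw [show w' * t = 1 from Subtype.ext h1]; exact one_mem _
      · rw [show w' * t = ⟨cx x, h.self_mem⟩ from Subtype.ext (h.invol_eq (mul_mem hw t.2) h2 h1)]
        exact hzc
    have h4 : u * μ t = 1 := by
      rw [hudef, ← map_mul]; exact (QuotientGroup.eq_one_iff _).2 h3
    show μ γ * u * (μ γ)⁻¹ = u
    rw [← htμ, ← inv_eq_of_mul_eq_one_right h4, invol_inv hu]
  · have e1 : w * (t : Qc x) * w⁻¹ * (t : Qc x)⁻¹ = cx x := e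
    show w * (t : Qc x) * w⁻¹ = (t : Qc x) * cx x
    calc w * (t : Qc x) * w⁻¹ = w * (t : Qc x) * w⁻¹ * (t : Qc x)⁻¹ * t := by group
      _ = cx x * t := by rw [e1]
      _ = _ := (proj_self_central (t : Qc x)).eq.symm

end CfsgLib.Invol.IntrinsicSL
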