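import Cfsg.Agent.Lib.Invol.IntrinsicSL.Swap

/-!
# A two-element of `K` moving `J`

`z ∈ K` commutes with `a` and moves `J` while `z²` does not; then `z² = b`.
-/

set_option autoImplicit false
set_option linter.style.haveILetI false
set_option linter.unusedSectionVars false

namespace CfsgLib.Invol.IntrinsicSL

open Subgroup CfsgLib.Coprime CfsgLib.Invol.PTerminal
open scoped commutatorElement

variable {G : Type*} [Group G] [Finite G] [Fact (Nat.Prime 2)]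

local notation "𝒞" x:max => Subgroup.centralizer ({x} : Set _)

theorem TwoEl.mul {M : Type*} [Monoid M] {u v : M} (hu : TwoEl u) (hv : TwoEl v) (h : Commute u v) :
    TwoEl (u * v) := by
  obtain ⟨i, hi⟩ := hu
  obtain ⟨j, hj⟩ := hv
  exact ⟨i + j, by rw [h.mul_pow, pow_add, pow_mul, hi, one_pow, mul_comm, pow_mul, hj, one_pow, one_mul]⟩

theorem TwoEl.inv {M : Type*} [Group M] {u : M} (hu : TwoEl u) : TwoEl u⁻¹ :=
  let ⟨i, hi⟩ := hu; ⟨i, by rw [inv_pow, hi, inv_one]⟩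

theorem TwoEl.conj {M : Type*} [Group M] {u : M} (hu : TwoEl u) (g : M) : TwoEl (g * u * g⁻¹) :=
  hu.map (MulAut.conj g).toMonoidHom

/-- An element conjugating `y` to `x y`. -/
theorem exists_conj_mul {x y : G} (hx : orderOf x = 2) (hy : orderOf y = 2) (hne : x ≠ y) (hyx : y ∈ 𝒞 x)
    {q : Qc x} (h : proj 2 (𝒞 x) ⟨y, hyx⟩ * q * (proj 2 (𝒞 x) ⟨y, hyx⟩)⁻¹ = q * cx x) :
    ∃ g ∈ 𝒞 x, g * y * g⁻¹ = x * y := by
  obtain ⟨g, rfl⟩ := QuotientGroup.mk'_surjective _ q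
  have hxy : Commute x y := (commute_of_mem hyx).symm
  have hu : proj 2 (𝒞 x) (g * ⟨y, hyx⟩ * g⁻¹) = proj 2 (𝒞 x) (self' x * ⟨y, hyx⟩) := by
    rw [map_mul, map_mul, map_mul, map_inv]
    set Y := proj 2 (𝒞 x) ⟨y, hyx⟩
    set q := proj 2 (𝒞 x) g
    change q * Y * q⁻¹ = cx x * Y
    have e1 : Y * q = q * cx x * Y := by
      change Y * q * Y⁻¹ = q * cx x at h
      rwa [mul_inv_eq_iff_eq_mul] at h
    calc q * Y * q⁻¹ = (cx x)⁻¹ * (q * cx x * Y) * q⁻¹ := by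
          rw [(proj_self_central q).eq]; group
      _ = (cx x)⁻¹ * Y := by rw [← e1]; group
      _ = _ := by rw [inv_eq_of_mul_eq_one_right (proj_self_sq hx)]
  obtain ⟨o, -, -, e⟩ := exists_conj_core (u := g * ⟨y, hyx⟩ * g⁻¹) (v := self' x * ⟨y, hyx⟩)
    (invol_conj hy (g : G)) (invol_commute_mul hx hy hxy hne) hu
  refine ⟨(o : G) * g, mul_mem o.2 g.2, ?_⟩
  change (o : G) * ((g : G) * y * (g : G)⁻¹) * (o : G)⁻¹ = x * y at e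
  rw [← e]; group

/-- `z ∈ K` commutes with `a` and moves `J`, its square does not. -/
structure Moving (a b : G) (J K : Subgroup G) (z : G) : Prop where
  hJ : Intr a J
  hK : Intr b K
  mem : z ∈ K
  comm : Commute z a
  two : TwoEl z
  moved : z ∉ normalizer (J : Set G)
  sq : z * z ∈ normalizer (J : Set G)
  hab : Commute a b
  hne : a ≠ b
  haK : a ∈ normalizer (K : Set G)
  hbJ : b ∈ normalizer (J : Set G)

variable {a b z : G} {J K : Subgroup G}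

namespace Moving

variable (S : Moving a b J K z)
include S

theorem memA : z ∈ 𝒞 a := mem_of_commute S.comm
theorem memB : z ∈ 𝒞 b := S.hK.le S.mem
theorem bA : b ∈ 𝒞 a := mem_of_commute S.hab.symm
theorem aB : a ∈ 𝒞 b := mem_of_commute S.hab

/-- The image of `z` in `Qc a`. -/
abbrev Za : Qc a := proj 2 (𝒞 a) ⟨z, S.memA⟩
/-- The image of `b` in `Qc a`. -/
abbrev Ba : Qc a := proj 2 (𝒞 a) ⟨b, S.bA⟩
/-- The image of `z` in `Qc b`. -/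
abbrev Zb : Qc b := proj 2 (𝒞 b) ⟨z, S.memB⟩

theorem exists_order : ∃ s : ℕ, 2 ≤ s ∧ orderOf z = 2 ^ s ∧ z ^ 2 ^ (s - 1) = b := by
  obtain ⟨k, hk⟩ := S.two
  obtain ⟨s, -, hs⟩ := (Nat.dvd_prime_pow Nat.prime_two).1 (orderOf_dvd_of_pow_eq_one hk)
  have h0 : s ≠ 0 := fun e => S.moved (by
    rw [e, pow_zero] at hs; rw [orderOf_eq_one_iff.1 hs]; exact one_mem _)
  have hev : Even (orderOf z) := by rw [hs]; exact (Nat.even_pow).2 ⟨even_two, h0⟩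
  have hb : z ^ 2 ^ (s - 1) = b := by
    refine S.hK.uniq _ (pow_mem S.mem _) ?_
    have := orderOf_pow_half hev
    rwa [hs, show 2 ^ s / 2 = 2 ^ (s - 1) by
      obtain ⟨t, rfl⟩ := Nat.exists_eq_succ_of_ne_zero h0
      rw [pow_succ, Nat.mul_div_cancel _ (by norm_num)]; rfl] at this
  refine ⟨s, ?_, hs, hb⟩
  by_contra h1
  rw [show s = 1 by omega, Nat.sub_self, pow_zero, pow_one] at hb
  exact S.moved (hb ▸ S.hbJ)

theorem commute_b : Commute z b := commute_of_mem S.memB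

theorem Za_commute_Ba : Commute S.Za S.Ba :=
  (show Commute (⟨z, S.memA⟩ : ↥(𝒞 a)) ⟨b, S.bA⟩ from Subtype.ext S.commute_b.eq).map _

theorem Za_not_normalizer : S.Za ∉ normalizer (bar 2 (𝒞 a) J : Set (Qc a)) := fun h =>
  S.moved ((S.hJ.proj_normalizer_iff (g := ⟨z, S.memA⟩)).1 h)

theorem Za_sq_normalizer : S.Za * S.Za ∈ normalizer (bar 2 (𝒞 a) J : Set (Qc a)) := by
  rw [← map_mul]
  exact (S.hJ.proj_normalizer_iff (g := ⟨z, S.memA⟩ * ⟨z, S.memA⟩)).2 S.sq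

theorem image_ne : (bar 2 (𝒞 a) J).map (MulAut.conj S.Za).toMonoidHom ≠ bar 2 (𝒞 a) J := fun e =>
  S.Za_not_normalizer (mem_normalizer_iff.2 fun n => by
    conv_rhs => rw [← e, mem_map_equiv, MulAut.conj_symm_apply]
    rw [show S.Za⁻¹ * (S.Za * n * S.Za⁻¹) * S.Za = n by group])

theorem commute_image {m n : Qc a} (hm : m ∈ bar 2 (𝒞 a) J) (hn : n ∈ bar 2 (𝒞 a) J) :
    Commute m (S.Za * n * S.Za⁻¹) :=
  commutator_eq_bot_iff_forall.1 (components_commute S.hJ.isComponent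
    (isComponent_map_equiv _ S.hJ.isComponent) S.image_ne.symm) m hm _ (mem_map_of_mem _ hn)

theorem eq_central {m : Qc a} (hm : m ∈ bar 2 (𝒞 a) J) (h : S.Za * m * S.Za⁻¹ ∈ bar 2 (𝒞 a) J) :
    m = 1 ∨ m = cx a := by
  have h1 := S.hJ.eq_central_of_mem (isComponent_map_equiv _ S.hJ.isComponent) S.image_ne h
    (mem_map_of_mem _ hm)
  have e : m = S.Za⁻¹ * (S.Za * m * S.Za⁻¹) * S.Za := by group
  rcases h1 with e1 | e1 <;> rw [e1] at e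
  · left; rw [e]; group
  · right; rw [e, mul_assoc, ← (proj_self_central S.Za).eq, inv_mul_cancel_left]

theorem not_centralizes_K :
    proj 2 (𝒞 b) ⟨a, S.aB⟩ ∉ centralizer (bar 2 (𝒞 b) K : Set (Qc b)) := fun h =>
  S.moved (mem_normalizer_of_pLayerOf S.hJ.comp
    (mem_pLayerOf_of_mem_D S.hK (mem_D_of S.aB h) S.hJ.ord S.mem S.memA S.two))

theorem Ba_ne_one : S.Ba ≠ 1 := fun h => by
  have := odd_of_proj h
  rw [show ((⟨b, S.bA⟩ : ↥(𝒞 a)) : G) = b from rfl, S.hK.ord] at this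
  exact absurd this (by decide)

theorem Ba_sq : S.Ba * S.Ba = 1 := by
  rw [← map_mul, show (⟨b, S.bA⟩ : ↥(𝒞 a)) * ⟨b, S.bA⟩ = 1 from Subtype.ext (invol_mul_self S.hK.ord), map_one]

theorem Ba_not_mem : S.Ba ∉ bar 2 (𝒞 a) J := fun h => by
  obtain ⟨o, ho, -, e⟩ := exists_conj_core (u := ⟨b, S.bA⟩) (v := self' a) S.hK.ord S.hJ.ord
    (S.hJ.invol_eq h S.Ba_sq S.Ba_ne_one)
  have hob : (o : G) ∈ 𝒞 b := zpowers_le.2
    (mul_mem (mem_of_commute (Commute.refl b)) (mem_of_commute S.hab)) ho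
  refine S.hne (e.symm.trans ?_)
  show (o : G) * b * (o : G)⁻¹ = b
  rw [(commute_of_mem hob).eq, mul_inv_cancel_right]

theorem not_centralizes_J :
    S.Ba ∉ centralizer (bar 2 (𝒞 a) J : Set (Qc a)) := fun h => by
  obtain ⟨hP, -, hbar⟩ := restr_data S.hJ.comp (mem_D_of S.bA h) S.hK.ord
  have hxM : proj 2 (𝒞 b) ⟨a, S.aB⟩ ∈ normalizer (bar 2 (𝒞 b) K : Set (Qc b)) :=
    (S.hK.proj_normalizer_iff (g := ⟨a, S.aB⟩)).2 S.haK
  rcases le_or_centralizes S.hJ.ord S.aB hP S.hK.isComponent hxM with h1 | h1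
  · have hmem : proj 2 (𝒞 b) ⟨a, S.aB⟩ ∈ bar 2 (𝒞 b) (restr 2 b J) := proj_mem_bar (g := ⟨a, S.aB⟩)
      (mem_pClosure (k := 1) (Subgroup.mem_inf.2 ⟨S.hJ.mem, S.aB⟩)
        (by rw [pow_one, pow_two]; exact invol_mul_self S.hJ.ord))
    have h2 : proj 2 (𝒞 b) ⟨a, S.aB⟩ * proj 2 (𝒞 b) ⟨a, S.aB⟩ = 1 := by
      rw [← map_mul, show (⟨a, S.aB⟩ : ↥(𝒞 b)) * ⟨a, S.aB⟩ = 1 from Subtype.ext (invol_mul_self S.hJ.ord),
        map_one]
    by_cases h0 : proj 2 (𝒞 b) ⟨a, S.aB⟩ = 1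
    · have := odd_of_proj h0
      rw [show ((⟨a, S.aB⟩ : ↥(𝒞 b)) : G) = a from rfl, S.hJ.ord] at this
      exact absurd this (by decide)
    · obtain ⟨o, ho, -, e⟩ := exists_conj_core (u := ⟨a, S.aB⟩) (v := self' b) S.hJ.ord S.hK.ord
        (S.hK.invol_eq (h1 hmem) h2 h0)
      have hoa : (o : G) ∈ 𝒞 a := zpowers_le.2
        (mul_mem (mem_of_commute (Commute.refl a)) S.bA) ho
      refine S.hne (Eq.trans ?_ e)
      show a = (o : G) * a * (o : G)⁻¹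
      rw [(commute_of_mem hoa).eq, mul_inv_cancel_right]
  · obtain ⟨w, hw, hw2⟩ := S.hJ.exists_four
    rw [← hbar] at hw
    obtain ⟨W, hW, eW⟩ := mem_bar.1 hw
    have hWb : (W : G) ∈ 𝒞 b := restr_le b J hW
    have hWJ : w ∈ bar 2 (𝒞 a) J := hbar ▸ hw
    set τ : G := z * W * z⁻¹ * (W : G)⁻¹ with hτ
    have hτb : τ ∈ 𝒞 b := mul_mem (mul_mem (mul_mem S.memB hWb) (inv_mem S.memB)) (inv_mem hWb)
    have hτa : τ ∈ 𝒞 a := mul_mem (mul_mem (mul_mem S.memA W.2) (inv_mem S.memA)) (inv_mem W.2)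
    have hb1 : proj 2 (𝒞 b) ⟨τ, hτb⟩ = 1 := by
      rw [show (⟨τ, hτb⟩ : ↥(𝒞 b)) = ⟨z, S.memB⟩ * ⟨W, hWb⟩ * ⟨z, S.memB⟩⁻¹ * (⟨W, hWb⟩ : ↥(𝒞 b))⁻¹ from
        Subtype.ext rfl, map_mul, map_mul, map_mul, map_inv, map_inv,
        mem_centralizer_iff.1 (h1 (proj_mem_bar (g := (⟨W, hWb⟩ : ↥(𝒞 b))) hW)) _ (proj_mem_bar (g := (⟨z, S.memB⟩ : ↥(𝒞 b))) S.mem),
        mul_inv_cancel_right, mul_inv_cancel]
    have ea : proj 2 (𝒞 a) ⟨τ, hτa⟩ = S.Za * w * S.Za⁻¹ * w⁻¹ := by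
      rw [← eW, show (⟨τ, hτa⟩ : ↥(𝒞 a)) = ⟨z, S.memA⟩ * W * ⟨z, S.memA⟩⁻¹ * W⁻¹ from Subtype.ext rfl,
        map_mul, map_mul, map_mul, map_inv, map_inv]
    have hwt : TwoEl w := ⟨2, by
      rw [show 2 ^ 2 = 2 * 2 by rfl, pow_mul, pow_two w, hw2, pow_two]; exact proj_self_sq S.hJ.ord⟩
    have h3 := proj_eq_one_of_odd_twoEl (g := (⟨τ, hτa⟩ : ↥(𝒞 a))) (odd_of_proj (g := (⟨τ, hτb⟩ : ↥(𝒞 b))) hb1)
      (ea ▸ (hwt.conj S.Za).mul hwt.inv ((S.commute_image hWJ hWJ).symm.inv_right))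
    rw [ea, mul_inv_eq_one] at h3
    have hne1 : cx a ≠ 1 := proj_self_ne_one S.hJ.ord
    rcases S.eq_central hWJ (h3.symm ▸ hWJ) with e | e <;> rw [e] at hw2
    · exact hne1 (by rw [← hw2, one_mul])
    · exact hne1 (by rw [← hw2]; exact proj_self_sq S.hJ.ord)

/-- An element of `K ∩ C(a)` over a nontrivial two-element has a power over `b`. -/
theorem exists_pow_Ba {g : G} (hgK : g ∈ K) (hga : g ∈ 𝒞 a) (ht : TwoEl (proj 2 (𝒞 a) ⟨g, hga⟩))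
    (h1 : proj 2 (𝒞 a) ⟨g, hga⟩ ≠ 1) : ∃ i : ℕ, proj 2 (𝒞 a) ⟨g, hga⟩ ^ i = S.Ba := by
  obtain ⟨i, hi⟩ := S.hK.exists_pow_eq (j := ⟨g, S.hK.le hgK⟩) hgK fun m hm e => by
    rw [← map_pow] at e
    have ho := odd_of_proj e
    refine ht.pow_odd_ne_one h1 hm ?_
    rw [← map_pow]
    refine proj_eq_one_of_odd_twoEl ?_ ?_
    · simpa using ho
    · rw [map_pow]; obtain ⟨k, hk⟩ := ht; exact ⟨k, by rw [← pow_mul, mul_comm, pow_mul, hk, one_pow]⟩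
  exact ⟨i, by rw [← map_pow]; exact congrArg _ (Subtype.ext (by rw [coe_pow]; exact hi))⟩

theorem eq_Ba {g : G} (hgK : g ∈ K) (hga : g ∈ 𝒞 a) {u : Qc a} (hu : proj 2 (𝒞 a) ⟨g, hga⟩ = u)
    (h2 : u * u = 1) (h1 : u ≠ 1) : u = S.Ba := by
  obtain ⟨i, hi⟩ := S.exists_pow_Ba hgK hga (hu ▸ twoEl_of_sq h2) (hu ▸ h1)
  rw [hu] at hi
  rcases Nat.even_or_odd i with ⟨k, rfl⟩ | ho
  · rw [← two_mul, pow_mul, pow_two, h2, one_pow] at hi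
    exact absurd hi.symm S.Ba_ne_one
  · rwa [sq_pow_odd h2 ho] at hi

theorem comm_mem_K {H : G} (hH : H ∈ normalizer (K : Set G)) : z * H * z⁻¹ * H⁻¹ ∈ K := by
  have h := mul_mem S.mem ((mem_normalizer_iff.1 hH z⁻¹).1 (inv_mem S.mem))
  rwa [show z * (H * z⁻¹ * H⁻¹) = z * H * z⁻¹ * H⁻¹ by group] at h

/-- The key fact about commutators with `z`. -/
theorem key {H : ↥(𝒞 a)} (hHb : (H : G) ∈ 𝒞 b)
    (hs : S.Za * proj 2 (𝒞 a) H * S.Za⁻¹ * (proj 2 (𝒞 a) H)⁻¹ ∈ bar 2 (𝒞 a) J)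
    (ht : TwoEl (S.Za * proj 2 (𝒞 a) H * S.Za⁻¹ * (proj 2 (𝒞 a) H)⁻¹))
    (h1 : S.Za * proj 2 (𝒞 a) H * S.Za⁻¹ * (proj 2 (𝒞 a) H)⁻¹ ≠ 1) :
    (H : G) ∉ normalizer (K : Set G) ∧
      S.Za * proj 2 (𝒞 a) H * S.Za⁻¹ * (proj 2 (𝒞 a) H)⁻¹ = cx a := by
  set s := S.Za * proj 2 (𝒞 a) H * S.Za⁻¹ * (proj 2 (𝒞 a) H)⁻¹ with hsdef
  set σ : G := z * H * z⁻¹ * (H : G)⁻¹ with hσ
  have hσa : σ ∈ 𝒞 a := mul_mem (mul_mem (mul_mem S.memA H.2) (inv_mem S.memA)) (inv_mem H.2)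
  have hσb : σ ∈ 𝒞 b := mul_mem (mul_mem (mul_mem S.memB hHb) (inv_mem S.memB)) (inv_mem hHb)
  have es : proj 2 (𝒞 a) ⟨σ, hσa⟩ = s := by
    rw [show (⟨σ, hσa⟩ : ↥(𝒞 a)) = ⟨z, S.memA⟩ * H * ⟨z, S.memA⟩⁻¹ * H⁻¹ from Subtype.ext rfl,
      map_mul, map_mul, map_mul, map_inv, map_inv]
  have hN : (H : G) ∉ normalizer (K : Set G) := fun hH => by
    obtain ⟨i, hi⟩ := S.exists_pow_Ba (S.comm_mem_K hH) hσa (es ▸ ht) (es ▸ h1)
    rw [es] at hi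
    exact S.Ba_not_mem (hi ▸ pow_mem hs i)
  refine ⟨hN, ?_⟩
  set Hb := proj 2 (𝒞 b) ⟨H, hHb⟩
  have hne : (bar 2 (𝒞 b) K).map (MulAut.conj Hb).toMonoidHom ≠ bar 2 (𝒞 b) K := fun e => hN
    ((S.hK.proj_normalizer_iff (g := ⟨H, hHb⟩)).1 (mem_normalizer_iff.2 fun n => by
      conv_rhs => rw [← e, mem_map_equiv, MulAut.conj_symm_apply]
      rw [show Hb⁻¹ * (Hb * n * Hb⁻¹) * Hb = n by group]))
  have hc : Commute S.Zb (Hb * S.Zb * Hb⁻¹) :=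
    commutator_eq_bot_iff_forall.1 (components_commute S.hK.isComponent
      (isComponent_map_equiv _ S.hK.isComponent) hne.symm) _ (proj_mem_bar (g := ⟨z, S.memB⟩) S.mem) _
      (mem_map_of_mem _ (proj_mem_bar (g := ⟨z, S.memB⟩) S.mem))
  set τ : G := z * σ * z⁻¹ * σ⁻¹ with hτ
  have hτb : τ ∈ 𝒞 b := mul_mem (mul_mem (mul_mem S.memB hσb) (inv_mem S.memB)) (inv_mem hσb)
  have hτa : τ ∈ 𝒞 a := mul_mem (mul_mem (mul_mem S.memA hσa) (inv_mem S.memA)) (inv_mem hσa)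
  have hb1 : proj 2 (𝒞 b) ⟨τ, hτb⟩ = 1 := by
    have eσ : proj 2 (𝒞 b) ⟨σ, hσb⟩ = S.Zb * (Hb * S.Zb * Hb⁻¹)⁻¹ := by
      rw [show (⟨σ, hσb⟩ : ↥(𝒞 b)) = ⟨z, S.memB⟩ * ⟨H, hHb⟩ * ⟨z, S.memB⟩⁻¹ * (⟨H, hHb⟩ : ↥(𝒞 b))⁻¹ from
        Subtype.ext rfl, map_mul, map_mul, map_mul, map_inv, map_inv]
      show S.Zb * Hb * S.Zb⁻¹ * Hb⁻¹ = _
      group
    rw [show (⟨τ, hτb⟩ : ↥(𝒞 b)) = ⟨z, S.memB⟩ * ⟨σ, hσb⟩ * ⟨z, S.memB⟩⁻¹ * (⟨σ, hσb⟩ : ↥(𝒞 b))⁻¹ from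
      Subtype.ext rfl, map_mul, map_mul, map_mul, map_inv, map_inv, eσ,
      ((Commute.refl S.Zb).mul_right hc.inv_right).eq, mul_inv_cancel_right, mul_inv_cancel]
  have ea : proj 2 (𝒞 a) ⟨τ, hτa⟩ = S.Za * s * S.Za⁻¹ * s⁻¹ := by
    rw [← es, show (⟨τ, hτa⟩ : ↥(𝒞 a)) = ⟨z, S.memA⟩ * ⟨σ, hσa⟩ * ⟨z, S.memA⟩⁻¹ * (⟨σ, hσa⟩ : ↥(𝒞 a))⁻¹ from
      Subtype.ext rfl, map_mul, map_mul, map_mul, map_inv, map_inv]
  have h3 := proj_eq_one_of_odd_twoEl (g := (⟨τ, hτa⟩ : ↥(𝒞 a))) (odd_of_proj (g := (⟨τ, hτb⟩ : ↥(𝒞 b))) hb1)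
    (ea ▸ (ht.conj S.Za).mul ht.inv ((S.commute_image hs hs).symm.inv_right))
  rw [ea, mul_inv_eq_one] at h3
  exact (S.eq_central hs (h3.symm ▸ hs)).resolve_left h1

theorem exists_lift {q : Qc a} (hq : Commute q S.Ba) :
    ∃ Q : ↥(𝒞 a), (Q : G) ∈ 𝒞 b ∧ proj 2 (𝒞 a) Q = q := by
  obtain ⟨g0, rfl⟩ := QuotientGroup.mk'_surjective _ q
  obtain ⟨g', hg', e⟩ := exists_lift_centralizer (zpowers_le.2 S.bA) (isPGroup_zpowers_of S.hK.ord)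
    (g := g0) (fun s hs => by
      obtain ⟨n, rfl⟩ := mem_zpowers_iff.1 hs
      rw [show (⟨b ^ n, zpowers_le.2 S.bA hs⟩ : ↥(𝒞 a)) = (⟨b, S.bA⟩ : ↥(𝒞 a)) ^ n from Subtype.ext (by simp),
        map_zpow]
      exact hq.zpow_right n)
  rw [centralizer_zpowers_eq] at hg'
  exact ⟨g', hg', e⟩

theorem pair_commute {g : Qc a} (hg : S.Ba * g * S.Ba⁻¹ = g * cx a) :
    Commute (g * (S.Za * g * S.Za⁻¹)) S.Ba := by
  have e : S.Ba * (g * (S.Za * g * S.Za⁻¹)) * S.Ba⁻¹ = g * (S.Za * g * S.Za⁻¹) := by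
    calc S.Ba * (g * (S.Za * g * S.Za⁻¹)) * S.Ba⁻¹
        = (S.Ba * g * S.Ba⁻¹) * ((S.Ba * S.Za) * g * (S.Ba * S.Za)⁻¹) := by group
      _ = g * cx a * ((S.Za * S.Ba) * g * (S.Za * S.Ba)⁻¹) := by rw [hg, S.Za_commute_Ba.eq]
      _ = g * cx a * (S.Za * (S.Ba * g * S.Ba⁻¹) * S.Za⁻¹) := by group
      _ = g * cx a * (S.Za * (g * cx a) * S.Za⁻¹) := by rw [hg]
      _ = g * (cx a * (S.Za * g * (cx a * S.Za⁻¹))) := by group
      _ = g * (cx a * (S.Za * g * S.Za⁻¹) * cx a) := by rw [← (proj_self_central S.Za⁻¹).eq]; group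
      _ = g * ((S.Za * g * S.Za⁻¹) * (cx a * cx a)) := by
        rw [← (proj_self_central (S.Za * g * S.Za⁻¹)).eq]; group
      _ = _ := by rw [proj_self_sq S.hJ.ord, mul_one]
  rw [mul_inv_eq_iff_eq_mul] at e
  exact e.symm

theorem pair_comm {g : Qc a} (hgX : g ∈ bar 2 (𝒞 a) J) :
    S.Za * (g * (S.Za * g * S.Za⁻¹)) * S.Za⁻¹ * (g * (S.Za * g * S.Za⁻¹))⁻¹ =
      (S.Za * S.Za) * g * (S.Za * S.Za)⁻¹ * g⁻¹ := by
  have hg'' := (mem_normalizer_iff.1 S.Za_sq_normalizer g).1 hgX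
  have hc := S.commute_image hg'' hgX
  set G2 := S.Za * S.Za * g * (S.Za * S.Za)⁻¹ with hG2
  calc S.Za * (g * (S.Za * g * S.Za⁻¹)) * S.Za⁻¹ * (g * (S.Za * g * S.Za⁻¹))⁻¹
      = (S.Za * g * S.Za⁻¹) * G2 * ((S.Za * g * S.Za⁻¹)⁻¹ * g⁻¹) := by rw [hG2]; group
    _ = G2 * (S.Za * g * S.Za⁻¹) * ((S.Za * g * S.Za⁻¹)⁻¹ * g⁻¹) := by rw [hc.eq]
    _ = G2 * g⁻¹ := by group

/-- The elements of `J` sent to themselves or to their product with `a` by `b`. -/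
def R : Subgroup (Qc a) where
  carrier := {g | g ∈ bar 2 (𝒞 a) J ∧ (S.Ba * g * S.Ba⁻¹ = g ∨ S.Ba * g * S.Ba⁻¹ = g * cx a)}
  one_mem' := ⟨one_mem _, Or.inl (by simp)⟩
  inv_mem' := by
    rintro g ⟨hg, h⟩
    refine ⟨inv_mem hg, ?_⟩
    rcases h with e | e
    · left; rw [show S.Ba * g⁻¹ * S.Ba⁻¹ = (S.Ba * g * S.Ba⁻¹)⁻¹ by group, e]
    · right
      rw [show S.Ba * g⁻¹ * S.Ba⁻¹ = (S.Ba * g * S.Ba⁻¹)⁻¹ by group, e, mul_inv_rev,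
        inv_eq_of_mul_eq_one_right (proj_self_sq S.hJ.ord)]
      exact (proj_self_central g⁻¹).eq.symm
  mul_mem' := by
    rintro g g' ⟨hg, h⟩ ⟨hg', h'⟩
    refine ⟨mul_mem hg hg', ?_⟩
    have key : S.Ba * (g * g') * S.Ba⁻¹ = (S.Ba * g * S.Ba⁻¹) * (S.Ba * g' * S.Ba⁻¹) := by group
    have hc : cx a * g' = g' * cx a := (proj_self_central g').eq.symm
    rcases h with e | e <;> rcases h' with e' | e' <;> rw [key, e, e']
    · exact Or.inl rfl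
    · right; rw [mul_assoc]
    · right; rw [mul_assoc, hc, mul_assoc]
    · left; rw [← mul_assoc, mul_assoc g, hc, mul_assoc, mul_assoc, proj_self_sq S.hJ.ord, mul_one]

/-- `z² = b`. -/
theorem sq_eq : z * z = b := by
  classical
  by_contra hne2
  obtain ⟨s, hs2, hs, hb⟩ := S.exists_order
  have hs3 : 3 ≤ s := by
    by_contra h
    rw [show s = 2 by omega] at hb
    exact hne2 (by rw [← hb, show 2 ^ (2 - 1) = 2 from rfl, pow_two])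
  set Z2 := S.Za * S.Za with hZ2
  have hBpow : S.Ba = (Z2 * Z2) ^ 2 ^ (s - 3) := by
    rw [hZ2, ← pow_two, ← pow_two, ← pow_mul, ← pow_mul, ← map_pow]
    refine congrArg _ (Subtype.ext ?_)
    rw [coe_pow, show 2 * (2 * 2 ^ (s - 3)) = 2 ^ (s - 1) by
      rw [show s - 1 = (s - 3) + 1 + 1 by omega, pow_succ, pow_succ]; ring]
    exact hb.symm
  have hZ2t : TwoEl Z2 := by
    obtain ⟨k, hk⟩ := S.two
    refine (TwoEl.mul ⟨k, ?_⟩ ⟨k, ?_⟩ (Commute.refl _)) <;>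
      rw [← map_pow, show (⟨z, S.memA⟩ : ↥(𝒞 a)) ^ 2 ^ k = 1 from Subtype.ext hk, map_one]
  have hRn : Z2 ∈ normalizer (S.R : Set (Qc a)) := by
    have hBZ : Commute S.Ba Z2 := (S.Za_commute_Ba.symm).mul_right S.Za_commute_Ba.symm
    refine mem_normalizer_iff.2 fun g => ?_
    have e : S.Ba * (Z2 * g * Z2⁻¹) * S.Ba⁻¹ = Z2 * (S.Ba * g * S.Ba⁻¹) * Z2⁻¹ := by
      calc S.Ba * (Z2 * g * Z2⁻¹) * S.Ba⁻¹ = (S.Ba * Z2) * g * (S.Ba * Z2)⁻¹ := by group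
        _ = (Z2 * S.Ba) * g * (Z2 * S.Ba)⁻¹ := by rw [hBZ.eq]
        _ = _ := by group
    have e2 : Z2 * g * Z2⁻¹ * cx a = Z2 * (g * cx a) * Z2⁻¹ := by
      rw [mul_assoc (Z2 * g), (proj_self_central Z2⁻¹).eq]; group
    constructor
    · rintro ⟨hg, h⟩
      refine ⟨(mem_normalizer_iff.1 S.Za_sq_normalizer g).1 hg, h.imp (fun h => ?_) fun h => ?_⟩
      · rw [e, h]
      · rw [e, h, e2]
    · rintro ⟨hg, h⟩
      refine ⟨(mem_normalizer_iff.1 S.Za_sq_normalizer g).2 hg, h.imp (fun h => ?_) fun h => ?_⟩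
      · rw [e] at h; exact mul_left_cancel (mul_right_cancel h)
      · rw [e, e2] at h; exact mul_left_cancel (mul_right_cancel h)
  set RZ := S.R ⊔ zpowers Z2 with hRZ
  have hZ2' : IsPGroup 2 (zpowers (⟨Z2, mem_sup_right (mem_zpowers Z2)⟩ : RZ)) := by
    obtain ⟨k, hk⟩ := hZ2t
    exact isPGroup_zpowers (k := k) (Subtype.ext (by rw [coe_pow]; exact hk))
  obtain ⟨T, hT⟩ := hZ2'.exists_le_sylow
  haveI hRN : (S.R.subgroupOf RZ).Normal := (normal_subgroupOf_iff_le_normalizer le_sup_left).2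
    (sup_le le_normalizer (zpowers_le.2 hRn))
  set R' := S.R.subgroupOf RZ with hR'
  set P := R' ⊓ (T : Subgroup RZ) with hP
  have hodd : ¬ 2 ∣ P.relIndex R' := by
    have h1 : P.relIndex R' * R'.relIndex (R' ⊔ T) = P.relIndex T * (T : Subgroup RZ).relIndex (R' ⊔ T) := by
      rw [relIndex_mul_relIndex _ _ _ inf_le_left le_sup_left, relIndex_mul_relIndex _ _ _ inf_le_right le_sup_right]
    have h2 : R'.relIndex (R' ⊔ T) = P.relIndex T := by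
      rw [sup_comm, relIndex_sup_right, hP, inf_relIndex_right]
    rw [h2, mul_comm] at h1
    have h3 := Nat.eq_of_mul_eq_mul_left (Nat.pos_of_ne_zero index_ne_zero_of_finite) h1
    rw [h3]
    intro hd
    exact T.not_dvd_index (hd.trans ⟨_, (relIndex_mul_index (le_sup_right : (T : Subgroup RZ) ≤ R' ⊔ T)).symm⟩)
  obtain ⟨k, hk, ek⟩ := S.hJ.exists_moved S.Ba_sq ((S.hJ.proj_normalizer_iff (g := ⟨b, S.bA⟩)).2 S.hbJ)
    S.not_centralizes_J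
  obtain ⟨g, hgP, hgB⟩ : ∃ g ∈ P, ¬ S.Ba * (g : Qc a) * S.Ba⁻¹ = g := by
    by_contra hc
    push Not at hc
    set C0 : Subgroup RZ := R' ⊓ (centralizer ({S.Ba} : Set (Qc a))).subgroupOf RZ with hC0
    have hPC : P ≤ C0 := fun g hg => Subgroup.mem_inf.2 ⟨(Subgroup.mem_inf.1 hg).1,
      mem_centralizer_singleton_iff.2 (mul_inv_eq_iff_eq_mul.1 (hc g hg)).symm⟩
    have hk' : (⟨k, mem_sup_left ⟨hk, Or.inr ek⟩⟩ : RZ) ∈ R' := ⟨hk, Or.inr ek⟩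
    have h2 : C0.relIndex R' = 2 := by
      rw [relIndex, index_eq_two_iff]
      refine ⟨⟨_, hk'⟩, fun g => ?_⟩
      have hcoe : ∀ q : R', q ∈ C0.subgroupOf R' ↔ S.Ba * ((q : RZ) : Qc a) * S.Ba⁻¹ = ((q : RZ) : Qc a) := by
        intro q
        rw [mem_subgroupOf, Subgroup.mem_inf]
        constructor
        · rintro ⟨-, h⟩
          exact mul_inv_eq_iff_eq_mul.2 (mem_centralizer_singleton_iff.1 h).symm
        · exact fun h => ⟨q.2, mem_centralizer_singleton_iff.2 (mul_inv_eq_iff_eq_mul.1 h).symm⟩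
      rw [hcoe, hcoe]
      set q := ((g : RZ) : Qc a) with hq
      have hmul : S.Ba * (q * k) * S.Ba⁻¹ = (S.Ba * q * S.Ba⁻¹) * (k * cx a) := by rw [← ek]; group
      show Xor (S.Ba * (q * k) * S.Ba⁻¹ = q * k) (S.Ba * q * S.Ba⁻¹ = q)
      have hne : ∀ q : Qc a, q * cx a ≠ q := fun q e => proj_self_ne_one S.hJ.ord (mul_eq_left.1 e)
      have hor : S.Ba * q * S.Ba⁻¹ = q ∨ S.Ba * q * S.Ba⁻¹ = q * cx a := g.2.2
      rcases hor with h | h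
      · refine Or.inr ⟨h, ?_⟩
        rw [hmul, h, ← mul_assoc]
        exact hne _
      · refine Or.inl ⟨?_, fun h' => hne _ (h.symm.trans h')⟩
        rw [hmul, h, ← mul_assoc, mul_assoc q (cx a) k, ← (proj_self_central k).eq, ← mul_assoc q k,
          mul_assoc (q * k), proj_self_sq S.hJ.ord, mul_one]
    exact hodd ⟨P.relIndex C0, (relIndex_mul_relIndex _ _ _ hPC inf_le_left).symm.trans (by rw [h2, mul_comm])⟩
  obtain ⟨hgX, hgc⟩ : (g : Qc a) ∈ S.R := (Subgroup.mem_inf.1 hgP).1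
  have hg : S.Ba * (g : Qc a) * S.Ba⁻¹ = g * cx a := hgc.resolve_left hgB
  obtain ⟨H, hHb, eH⟩ := S.exists_lift (S.pair_commute hg)
  have hs : S.Za * proj 2 (𝒞 a) H * S.Za⁻¹ * (proj 2 (𝒞 a) H)⁻¹ = Z2 * g * Z2⁻¹ * (g : Qc a)⁻¹ := by
    rw [eH]; exact S.pair_comm hgX
  have hsX : Z2 * g * Z2⁻¹ * (g : Qc a)⁻¹ ∈ bar 2 (𝒞 a) J :=
    mul_mem ((mem_normalizer_iff.1 S.Za_sq_normalizer _).1 hgX) (inv_mem hgX)
  have hst : TwoEl (Z2 * g * Z2⁻¹ * (g : Qc a)⁻¹) := by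
    have hgT : g ∈ (T : Subgroup RZ) := (Subgroup.mem_inf.1 hgP).2
    have hzT : (⟨Z2, mem_sup_right (mem_zpowers Z2)⟩ : RZ) ∈ (T : Subgroup RZ) := hT (mem_zpowers _)
    obtain ⟨k, hk⟩ := T.2 ⟨_, mul_mem (mul_mem (mul_mem hzT hgT) (inv_mem hzT)) (inv_mem hgT)⟩
    exact ⟨k, congrArg (fun t : T => ((t : RZ) : Qc a)) hk⟩
  have hBg : ∀ h : Commute (Z2 * Z2) (g : Qc a), False := fun h => hgB (by
    rw [hBpow, (h.pow_left _).eq, mul_inv_cancel_right])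
  by_cases h1 : Z2 * g * Z2⁻¹ * (g : Qc a)⁻¹ = 1
  · rw [mul_inv_eq_one, mul_inv_eq_iff_eq_mul] at h1
    exact hBg (Commute.mul_left h1 h1)
  · obtain ⟨-, h2⟩ := S.key hHb (hs.symm ▸ hsX) (hs.symm ▸ hst) (hs.symm ▸ h1)
    rw [hs, mul_inv_eq_iff_eq_mul, mul_inv_eq_iff_eq_mul] at h2
    refine hBg ?_
    show Z2 * Z2 * (g : Qc a) = g * (Z2 * Z2)
    calc Z2 * Z2 * (g : Qc a) = Z2 * (Z2 * g) := by group
      _ = Z2 * cx a * g * Z2 := by rw [h2]; group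
      _ = cx a * (Z2 * g) * Z2 := by rw [(proj_self_central Z2).eq]; group
      _ = cx a * cx a * g * (Z2 * Z2) := by rw [h2]; group
      _ = _ := by rw [proj_self_sq S.hJ.ord, one_mul]

end Moving

end CfsgLib.Invol.IntrinsicSL
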