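import Cfsg.Agent.Lib.Invol.IntrinsicSL.Moved

/-!
# Normalizing is symmetric

If `a` normalizes `K` then `b` normalizes `J`.
-/

set_option autoImplicit false
set_option linter.style.haveILetI false
set_option linter.unusedSectionVars false

namespace CfsgLib.Invol.IntrinsicSL

open Subgroup CfsgLib.Coprime CfsgLib.Invol.PTerminal
open scoped commutatorElement

variable {G : Type*} [Group G] [Finite G] [Fact (Nat.Prime 2)]

local notation "𝒞" x:max => Subgroup.centralizer ({x} : Set _)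

theorem commute_of_mem {a g : G} (h : g ∈ 𝒞 a) : Commute g a := mem_centralizer_singleton_iff.1 h

theorem mem_of_commute {a g : G} (h : Commute g a) : g ∈ 𝒞 a := mem_centralizer_singleton_iff.2 h

theorem invol_commute_mul {u v : G} (hu : orderOf u = 2) (hv : orderOf v = 2) (h : Commute u v)
    (hne : u ≠ v) : orderOf (u * v) = 2 := invol_iff.2 ⟨by
  rw [h.symm.mul_mul_mul_comm, invol_mul_self hu, invol_mul_self hv, one_mul], fun e => hne
    ((eq_inv_of_mul_eq_one_left e).trans (invol_inv hv))⟩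

theorem conj_self_of_mem {x : G} {J : Subgroup G} (hJ : Intr x J) {g : G}
    (hg : g ∈ normalizer (J : Set G)) : g * x * g⁻¹ = x :=
  hJ.uniq _ ((mem_normalizer_iff.1 hg x).1 hJ.mem) (invol_conj hJ.ord g)

/-- An element of `C(x)` centralized modulo the core lies in `D`. -/
theorem mem_D_of {x : G} {J : Subgroup G} {g : G} (hg : g ∈ 𝒞 x)
    (h : proj 2 (𝒞 x) ⟨g, hg⟩ ∈ centralizer (bar 2 (𝒞 x) J : Set (Qc x))) :
    g ∈ Cfsg.centralizerOfPComponent 2 x J := mem_D_iff.2 ⟨hg, h⟩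

/-- If `u` centralizes `K` modulo the core then `b` is in the two-layer of `C(u)`. -/
theorem mem_pLayerOf_of_mem_D {b u : G} {K : Subgroup G} (hK : Intr b K)
    (hu : u ∈ Cfsg.centralizerOfPComponent 2 b K) (huo : orderOf u = 2) {g : G} (hg : g ∈ K)
    (hgu : g ∈ 𝒞 u) (ht : TwoEl g) : g ∈ Cfsg.pLayerOf 2 (𝒞 u) := by
  obtain ⟨k, hk⟩ := ht
  refine le_pLayerOf hK.ord (mem_of_commute (commute_of_mem (D_le hu)).symm)
    (restr_data hK.comp hu huo).1 ?_
  exact mem_pClosure (k := k) (Subgroup.mem_inf.2 ⟨hg, hgu⟩) hk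

theorem swap {a b : G} {J K : Subgroup G} (hJ : Intr a J) (hK : Intr b K)
    (haK : a ∈ normalizer (K : Set G)) : b ∈ normalizer (J : Set G) := by
  classical
  by_contra hmv
  have hab : Commute a b := by
    have h := conj_self_of_mem hK haK
    rwa [mul_inv_eq_iff_eq_mul] at h
  have hne : a ≠ b := fun e => hmv (e ▸ le_normalizer hJ.mem)
  have hba : b ∈ 𝒞 a := mem_of_commute hab.symm
  have hab' : a ∈ 𝒞 b := mem_of_commute hab
  set π := proj 2 (𝒞 a) with hπ
  set B := π ⟨b, hba⟩ with hB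
  set X := bar 2 (𝒞 a) J with hX
  set X' := X.map (MulAut.conj B).toMonoidHom with hX'
  have hB2 : B * B = 1 := by
    rw [hB, ← map_mul, show (⟨b, hba⟩ : ↥(𝒞 a)) * ⟨b, hba⟩ = 1 from Subtype.ext (invol_mul_self hK.ord),
      map_one]
  have hBi : B⁻¹ = B := inv_eq_of_mul_eq_one_right hB2
  have hBN : B ∉ normalizer (X : Set (Qc a)) := fun h =>
    hmv ((hJ.proj_normalizer_iff (g := ⟨b, hba⟩)).1 h)
  have hX'c : Cfsg.IsComponent X' := isComponent_map_equiv _ hJ.isComponent
  have hXne : X' ≠ X := fun e => hBN (mem_normalizer_iff.2 fun n => by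
    conv_rhs => rw [← e, hX', mem_map_equiv, MulAut.conj_symm_apply]
    rw [show B⁻¹ * (B * n * B⁻¹) * B = n by group])
  have hcomm : ∀ m ∈ X, ∀ n ∈ X, Commute m (B * n * B⁻¹) := fun m hm n hn =>
    commutator_eq_bot_iff_forall.1 (components_commute hJ.isComponent hX'c hXne.symm) m hm _
      (mem_map_of_mem _ hn)
  obtain ⟨w, hw, hw2⟩ := hJ.exists_four
  set w' := B * w * B⁻¹ with hw'
  have hww : Commute w w' := hcomm w hw w hw
  have hcB : B * cx a * B⁻¹ = cx a := by rw [(proj_self_central B).eq, mul_inv_cancel_right]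
  have hw'2 : w' * w' = cx a := by
    rw [hw', ← hcB, ← hw2]; group
  have hxne : cx a ≠ 1 := proj_self_ne_one hJ.ord
  have hcx2 : cx a * cx a = 1 := proj_self_sq hJ.ord
  have hw'X : w' ∉ X := fun h => by
    rcases hJ.eq_central_of_mem hX'c hXne h (mem_map_of_mem _ hw) with e | e <;>
      rw [show w' = _ from e] at hw'2
    · exact hxne (by rw [← hw'2, one_mul])
    · exact hxne (by rw [← hw'2, hcx2])
  set c := w'⁻¹ * w with hc
  have hwi : w⁻¹ = w * cx a := inv_eq_of_mul_eq_one_right (by rw [← mul_assoc, hw2, hcx2])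
  have hw'i : w'⁻¹ = w' * cx a := inv_eq_of_mul_eq_one_right (by rw [← mul_assoc, hw'2, hcx2])
  have hcc : c * c = 1 := by
    rw [hc, (hww.symm.inv_left.symm).mul_mul_mul_comm w'⁻¹ w, ← mul_inv_rev, hw'2, hw2, inv_mul_cancel]
  have hci : c⁻¹ = c := inv_eq_of_mul_eq_one_right hcc
  have hc' : c = w' * w⁻¹ := by
    rw [← hci, hc, mul_inv_rev, inv_inv]; exact hww.symm.inv_right.eq.symm
  have hc1 : c ≠ 1 := fun e => hw'X (by rw [show w' = w from inv_mul_eq_one.1 e]; exact hw)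
  have hccx : c ≠ cx a := fun e => hw'X (by
    have : w' = w * (cx a)⁻¹ := by rw [← e, hc]; group
    rw [this]; exact mul_mem hw (inv_mem hJ.self_mem))
  have hcN : c ∈ normalizer (X : Set (Qc a)) := by
    refine mul_mem (inv_mem (centralizer_le_normalizer _ ?_)) (le_normalizer hw)
    exact mem_centralizer_iff.2 fun m hm => (hcomm m hm w hw).eq
  have hcBc : Commute c B := by
    have e : B * c * B⁻¹ = c := by
      calc B * c * B⁻¹ = (B * w' * B⁻¹)⁻¹ * w' := by simp [hc, hw', mul_assoc]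
        _ = ((B * B) * w * (B * B)⁻¹)⁻¹ * w' := by rw [hw']; group
        _ = w⁻¹ * w' := by rw [hB2]; group
        _ = c⁻¹ := by rw [hc, mul_inv_rev, inv_inv]
        _ = c := hci
    rw [mul_inv_eq_iff_eq_mul] at e
    exact e.symm
  -- the exact involution `C` and the element `W`
  obtain ⟨C, hCo, hCb, eC⟩ := exists_invol_lift hK.ord hba hcc hc1 hcBc
  obtain ⟨w0, hw0⟩ := QuotientGroup.mk'_surjective _ w
  have hwc : Commute w c := (hww.inv_right).mul_right (Commute.refl w)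
  obtain ⟨W0, hW0, eW0⟩ := exists_lift_centralizer (zpowers_le.2 C.2) (isPGroup_zpowers_of hCo)
    (g := w0) (fun s hs => by
      obtain ⟨n, rfl⟩ := mem_zpowers_iff.1 hs
      rw [show (⟨(C : G) ^ n, zpowers_le.2 C.2 hs⟩ : ↥(𝒞 a)) = C ^ n from Subtype.ext (by simp),
        map_zpow]
      refine Commute.zpow_right ?_ n
      rw [eC, show proj 2 (𝒞 a) w0 = w from hw0]
      exact hwc)
  rw [centralizer_zpowers_eq] at hW0
  have hCc : Commute (C : G) b := commute_of_mem hCb
  have hCa : Commute (C : G) a := commute_of_mem C.2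
  have hCB : c ≠ B := fun e => hBN (e ▸ hcN)
  have hbC : orderOf (b * (C : G)) = 2 := invol_commute_mul hK.ord hCo hCc.symm fun e => hCB (by
    rw [← eC, hB]; exact congrArg π (Subtype.ext e.symm))
  have hu : π (W0 * ⟨b, hba⟩ * W0⁻¹) = π (⟨b, hba⟩ * C) := by
    rw [map_mul, map_mul, map_mul, map_inv, show π W0 = w from eW0.trans hw0, show π C = c from eC, ← hB, hc']
    calc w * B * w⁻¹ = w * B⁻¹ * w⁻¹ := by rw [hBi]
      _ = B⁻¹ * (B * w * B⁻¹) * w⁻¹ := by group
      _ = B * (w' * w⁻¹) := by rw [hw']; simp only [hBi, mul_assoc]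
  obtain ⟨o, ho, -, eo⟩ := exists_conj_core
    (u := W0 * ⟨b, hba⟩ * W0⁻¹) (v := ⟨b, hba⟩ * C) (invol_conj hK.ord (W0 : G)) hbC hu
  have huC : (W0 : G) * b * (W0 : G)⁻¹ ∈ 𝒞 (C : G) :=
    mul_mem (mul_mem hW0 (mem_of_commute hCc.symm)) (inv_mem hW0)
  have hoC : (o : G) ∈ 𝒞 (C : G) := zpowers_le.2
    (mul_mem huC (mul_mem (mem_of_commute hCc.symm) (mem_of_commute (Commute.refl _)))) ho
  set W := (o : G) * (W0 : G) with hW
  have hWC : Commute W (C : G) := commute_of_mem (mul_mem hoC hW0)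
  have hWa : Commute W a := commute_of_mem (mul_mem o.2 W0.2)
  have eW : W * b * W⁻¹ = b * (C : G) := by
    rw [show W * b * W⁻¹ = (o : G) * ((W0 : G) * b * (W0 : G)⁻¹) * (o : G)⁻¹ by rw [hW]; group]
    exact eo
  -- the diagonal involution `e`
  set e := a * (C : G) with he
  have hCa' : (C : G) ≠ a := fun h => hccx (by rw [← eC]; exact congrArg π (Subtype.ext h))
  have heo : orderOf e = 2 := invol_commute_mul hJ.ord hCo hCa.symm hCa'.symm
  have hea : Commute e a := (Commute.refl a).mul_left hCa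
  have heb : Commute e b := hab.mul_left hCc
  have hpe : π ⟨e, mem_of_commute hea⟩ = w * (B * w * B⁻¹) := by
    rw [show (⟨e, mem_of_commute hea⟩ : ↥(𝒞 a)) = self' a * C from Subtype.ext rfl, map_mul,
      show π C = c from eC, hc, ← hw']
    show cx a * (w'⁻¹ * w) = w * w'
    rw [← hw'2, ← mul_assoc, mul_inv_cancel_right, hww.eq]
  obtain ⟨D, hD, hDmem⟩ := exists_diag hJ hK.ord hba hmv
  have heD : e ∈ D := hDmem e (mem_of_commute hea) (mem_of_commute heb)
    (twoEl_of_sq (invol_mul_self heo)) ⟨w, hw, hpe⟩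
  -- `e` centralizes `K` modulo the core
  have heK : e ∈ Cfsg.centralizerOfPComponent 2 b K := by
    have hxM : proj 2 (𝒞 b) ⟨a, hab'⟩ ∈ normalizer (bar 2 (𝒞 b) K : Set (Qc b)) :=
      (hK.proj_normalizer_iff (g := ⟨a, hab'⟩)).2 haK
    have hmem : proj 2 (𝒞 b) ⟨e, mem_of_commute heb⟩ ∈ bar 2 (𝒞 b) D :=
      proj_mem_bar (g := ⟨e, mem_of_commute heb⟩) heD
    rcases le_or_centralizes hJ.ord hab' hD hK.isComponent hxM with h | h
    · exfalso
      have h2 : proj 2 (𝒞 b) ⟨e, mem_of_commute heb⟩ * proj 2 (𝒞 b) ⟨e, mem_of_commute heb⟩ = 1 := by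
        rw [← map_mul, show (⟨e, mem_of_commute heb⟩ : ↥(𝒞 b)) * ⟨e, mem_of_commute heb⟩ = 1 from
          Subtype.ext (invol_mul_self heo), map_one]
      by_cases h1 : proj 2 (𝒞 b) ⟨e, mem_of_commute heb⟩ = 1
      · have := odd_of_proj h1
        rw [show ((⟨e, mem_of_commute heb⟩ : ↥(𝒞 b)) : G) = e from rfl, heo] at this
        exact absurd this (by decide)
      · have h3 := hK.invol_eq (h hmem) h2 h1
        obtain ⟨o', ho', -, eo'⟩ := exists_conj_core (u := ⟨e, mem_of_commute heb⟩) (v := self' b) heo hK.ord h3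
        have hoe : Commute (o' : G) e := commute_of_mem (zpowers_le.2
          (mul_mem (mem_of_commute (Commute.refl e)) (mem_of_commute heb.symm)) ho')
        have hcoe : (o' : G) * e * (o' : G)⁻¹ = e := by rw [hoe.eq, mul_inv_cancel_right]
        have hbe : b = e := eo'.symm.trans hcoe
        refine hBN ?_
        rw [hB, show (⟨b, hba⟩ : ↥(𝒞 a)) = ⟨e, mem_of_commute hea⟩ from Subtype.ext hbe, hpe]
        exact mul_mem (le_normalizer hw)
          (centralizer_le_normalizer _ (mem_centralizer_iff.2 fun m hm => (hcomm m hm w hw).eq))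
    · exact mem_D_of _ (h hmem)
  -- `a` moves an element of `K` to its product with `b`
  have hα : proj 2 (𝒞 b) ⟨a, hab'⟩ ∉ centralizer (bar 2 (𝒞 b) K : Set (Qc b)) := fun h =>
    hmv (mem_normalizer_of_pLayerOf hJ.comp (mem_pLayerOf_of_mem_D hK (mem_D_of hab' h) hJ.ord hK.mem hba
      (twoEl_of_sq (invol_mul_self hK.ord))))
  obtain ⟨k, hk, ek⟩ := hK.exists_moved (a := proj 2 (𝒞 b) ⟨a, hab'⟩) (by
    rw [← map_mul, show (⟨a, hab'⟩ : ↥(𝒞 b)) * ⟨a, hab'⟩ = 1 from Subtype.ext (invol_mul_self hJ.ord),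
      map_one]) ((hK.proj_normalizer_iff (g := ⟨a, hab'⟩)).2 haK) hα
  have hk' := hk
  rw [← bar_inf_centralizer hK.comp (isPGroup_zpowers_of heo) (zpowers_le.2 heK)] at hk'
  obtain ⟨K0, hK0, eK0⟩ := mem_bar.1 hk'
  rw [centralizer_zpowers_eq, Subgroup.mem_inf] at hK0
  have habo : orderOf (a * b) = 2 := invol_commute_mul hJ.ord hK.ord hab hne
  have hab'' : Commute (a * b) b := hab.mul_left (Commute.refl b)
  have hu' : proj 2 (𝒞 b) (K0 * ⟨a, hab'⟩ * K0⁻¹) = proj 2 (𝒞 b) (⟨a, hab'⟩ * self' b) := by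
    rw [map_mul, map_mul, map_mul, map_inv, eK0]
    set A := proj 2 (𝒞 b) ⟨a, hab'⟩
    have e1 : A * k = k * A * cx b := by
      rw [mul_inv_eq_iff_eq_mul] at ek
      rw [ek, mul_assoc, mul_assoc, (proj_self_central A).symm.eq]
    show k * A * k⁻¹ = A * cx b
    calc k * A * k⁻¹ = k * A * cx b * (cx b)⁻¹ * k⁻¹ := by group
      _ = A * k * (cx b * k⁻¹) := by rw [← e1, inv_eq_of_mul_eq_one_right (proj_self_sq hK.ord)]; group
      _ = A * (k * k⁻¹ * cx b) := by rw [(proj_self_central k⁻¹).symm.eq]; group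
      _ = _ := by rw [mul_inv_cancel, one_mul]
  obtain ⟨o2, ho2, -, eo2⟩ := exists_conj_core (u := K0 * ⟨a, hab'⟩ * K0⁻¹) (v := ⟨a, hab'⟩ * self' b)
    (invol_conj hJ.ord (K0 : G)) habo hu'
  have ho2e : (o2 : G) ∈ 𝒞 e := zpowers_le.2 (mul_mem
    (mul_mem (mul_mem hK0.2 (mem_of_commute hea.symm)) (inv_mem hK0.2))
    (mul_mem (mem_of_commute hea.symm) (mem_of_commute heb.symm))) ho2
  set kk := (o2 : G) * (K0 : G) with hkk
  have hkb : Commute kk b := commute_of_mem (mul_mem o2.2 K0.2)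
  have hke : Commute kk e := commute_of_mem (mul_mem ho2e hK0.2)
  have ekk : kk * a * kk⁻¹ = a * b := by
    rw [show kk * a * kk⁻¹ = (o2 : G) * ((K0 : G) * a * (K0 : G)⁻¹) * (o2 : G)⁻¹ by rw [hkk]; group]
    exact eo2
  -- `g = W kk`
  have hCi : (C : G)⁻¹ = C := invol_inv hCo
  have ega : W * kk * a * (W * kk)⁻¹ = b * e := by
    calc W * kk * a * (W * kk)⁻¹ = W * (kk * a * kk⁻¹) * W⁻¹ := by group
      _ = (W * a * W⁻¹) * (W * b * W⁻¹) := by rw [ekk]; group
      _ = a * (b * (C : G)) := by rw [eW, hWa.eq, mul_inv_cancel_right]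
      _ = _ := by rw [he, ← mul_assoc, hab.eq, mul_assoc]
  have egb : (W * kk)⁻¹ * b * (W * kk) = C := by
    have h1 : W⁻¹ * b * W = b * (C : G) := by
      have h := congrArg (fun q => W⁻¹ * q * W) eW
      simp only [show W⁻¹ * (W * b * W⁻¹) * W = b by group] at h
      calc W⁻¹ * b * W = W⁻¹ * b * (W * C) * (C : G)⁻¹ := by group
        _ = W⁻¹ * (b * C) * W * (C : G)⁻¹ := by rw [hWC.eq]; group
        _ = b * C := by rw [← h, hCi]
    have h2 : kk⁻¹ * a * kk = a * b := by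
      have h := congrArg (fun q => kk⁻¹ * q * kk) ekk
      simp only [show kk⁻¹ * (kk * a * kk⁻¹) * kk = a by group] at h
      calc kk⁻¹ * a * kk = kk⁻¹ * a * (kk * b) * b⁻¹ := by group
        _ = kk⁻¹ * (a * b) * kk * b⁻¹ := by rw [hkb.eq]; group
        _ = a * b := by rw [← h, invol_inv hK.ord]
    have hCe : (C : G) = a * e := by rw [he, ← mul_assoc, invol_mul_self hJ.ord, one_mul]
    calc (W * kk)⁻¹ * b * (W * kk) = kk⁻¹ * (W⁻¹ * b * W) * kk := by group
      _ = kk⁻¹ * (b * (a * e)) * kk := by rw [h1, ← hCe]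
      _ = (kk⁻¹ * b * kk) * (kk⁻¹ * a * kk) * (kk⁻¹ * e * kk) := by group
      _ = b * (a * b) * e := by
        rw [h2, mul_assoc kk⁻¹ b kk, ← hkb.eq, inv_mul_cancel_left, mul_assoc kk⁻¹ e kk, ← hke.eq,
          inv_mul_cancel_left]
      _ = C := by rw [← mul_assoc b a b, ← hab.eq, mul_assoc a b b, invol_mul_self hK.ord, mul_one, ← hCe]
  set g := W * kk with hg
  set t := b * e with ht
  have hto : orderOf t = 2 := ega ▸ invol_conj hJ.ord g
  have hbt : Commute b t := (Commute.refl b).mul_right heb.symm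
  have htD : t ∈ Cfsg.centralizerOfPComponent 2 b K := mul_mem (self_mem_D b K) heK
  have hP := (restr_data hK.comp htD hto).1
  set φ := MulAut.conj g⁻¹ with hφ
  have hP' := isPComponentOf_map φ hP
  have hmap : (𝒞 b ⊓ 𝒞 t).map φ.toMonoidHom = 𝒞 (C : G) ⊓ 𝒞 a := by
    rw [Subgroup.map_inf _ _ _ φ.injective, map_centralizer_singleton, map_centralizer_singleton]
    have e1 : φ b = C := by rw [hφ, MulAut.conj_apply, inv_inv]; exact egb
    have e2 : φ t = a := by
      rw [hφ, MulAut.conj_apply, inv_inv, ← ega]; group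
    rw [e1, e2]
  rw [hmap] at hP'
  have hCP : (C : G) ∈ (restr 2 t K).map φ.toMonoidHom := by
    refine ⟨b, mem_pClosure (k := 1) (Subgroup.mem_inf.2 ⟨hK.mem, mem_of_commute hbt⟩) ?_, ?_⟩
    · rw [pow_one, pow_two]; exact invol_mul_self hK.ord
    · show φ b = C
      rw [hφ, MulAut.conj_apply, inv_inv]; exact egb
  have hCl : proj 2 (𝒞 a) C ∈ normalizer (X : Set (Qc a)) := eC.symm ▸ hcN
  rcases le_or_centralizes hCo C.2 hP' hJ.isComponent hCl with h | h
  · have h1 : c ∈ X := eC ▸ h (proj_mem_bar (g := C) hCP)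
    refine hw'X ?_
    have : w' = w * c⁻¹ := by rw [hc]; group
    rw [this]; exact mul_mem hw (inv_mem h1)
  · have h1 : c ∈ centralizer (X : Set (Qc a)) := eC ▸ h (proj_mem_bar (g := C) hCP)
    have hcen : ∀ r ∈ X, Commute w r := fun r hr => by
      have h2 := mem_centralizer_iff.1 h1 r hr
      have h3 : Commute r w'⁻¹ := (hcomm r hr w hw).inv_right
      rw [hc, ← mul_assoc, h3.eq, mul_assoc, mul_assoc] at h2
      exact (mul_left_cancel h2).symm
    rcases hJ.central_eq hw hcen with e' | e'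
    · rw [e', one_mul] at hw2; exact hxne hw2.symm
    · rw [e', hcx2] at hw2; exact hxne hw2.symm

end CfsgLib.Invol.IntrinsicSL
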